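import Cfsg.Agent.Lib.SmithTyrer.Simple
import Cfsg.Agent.Lib.PLocal.PSolvable

/-!
# A group with abelian noncyclic Sylow subgroup and inverting automizer is p-solvable
-/

set_option autoImplicit false
set_option linter.style.haveILetI false
set_option linter.unusedSectionVars false

namespace CfsgLib.SmithTyrer

open Cfsg CfsgLib.Base Subgroup

universe u

variable {p : ℕ} [Fact p.Prime]

theorem odd_pow_conj {G : Type u} [Group G] {P : Subgroup G} {t : G}
    (ht : ∀ x ∈ P, t * x * t⁻¹ = x⁻¹) : ∀ k : ℕ, ∀ x ∈ P,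
    t ^ (2 * k + 1) * x * (t ^ (2 * k + 1))⁻¹ = x⁻¹ := by
  intro k
  induction k with
  | zero => intro x hx; rw [mul_zero, zero_add, pow_one]; exact ht x hx
  | succ k ih =>
    intro x hx
    rw [show 2 * (k + 1) + 1 = (2 * k + 1) + 1 + 1 by ring, pow_succ', pow_succ',
      show t * (t * t ^ (2 * k + 1)) * x * (t * (t * t ^ (2 * k + 1)))⁻¹ =
        t * (t * (t ^ (2 * k + 1) * x * (t ^ (2 * k + 1))⁻¹) * t⁻¹) * t⁻¹ by group,
      ih x hx, ht _ (inv_mem hx), inv_inv, ht x hx]

/-- The quotient by a normal `p'`-subgroup keeps the hypothesis. -/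
theorem InvHyp.quotient {G : Type u} [Group G] [Finite G] {P : Sylow p G} (h : InvHyp P)
    (O : Subgroup G) [O.Normal] (hO : (Nat.card O).Coprime p) :
    InvHyp (P.mapSurjective (QuotientGroup.mk'_surjective O)) := by
  have hcoe : ((P.mapSurjective (QuotientGroup.mk'_surjective O) : Sylow p (G ⧸ O)) :
      Subgroup (G ⧸ O)) = (P : Subgroup G).map (QuotientGroup.mk' O) := rfl
  obtain ⟨t, ht⟩ := h.exists_inv
  refine ⟨?_, ?_, ⟨QuotientGroup.mk' O t, ?_⟩, ?_⟩
  · rw [hcoe]
    rintro _ ⟨x, hx, rfl⟩ _ ⟨y, hy, rfl⟩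
    rw [← map_mul, ← map_mul, h.comm x hx y hy]
  · rw [hcoe]
    intro hc
    have hinj : Function.Injective ((QuotientGroup.mk' O).subgroupMap (P : Subgroup G)) := by
      rw [injective_iff_map_eq_one]
      intro a ha
      have h1 : (a : G) ∈ O := (QuotientGroup.eq_one_iff _).1 (congrArg Subtype.val ha)
      obtain ⟨k, hk⟩ := P.isPGroup' a
      have h2 : orderOf (a : G) = 1 := Nat.eq_one_of_dvd_coprimes (hO.pow_right k)
        (Subgroup.orderOf_dvd_natCard _ h1)
        (by rw [Subgroup.orderOf_coe]; exact orderOf_dvd_of_pow_eq_one hk)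
      exact Subtype.ext (orderOf_eq_one_iff.1 h2)
    exact h.noncyclic (isCyclic_of_injective ((QuotientGroup.mk' O).subgroupMap (P : Subgroup G)) hinj)
  · rw [hcoe]
    rintro _ ⟨x, hx, rfl⟩
    rw [← map_inv, ← map_inv, ← map_mul, ← map_mul, ht x hx]
  · intro n hn
    obtain ⟨n, rfl⟩ := QuotientGroup.mk'_surjective O n
    rw [hcoe] at hn ⊢
    obtain ⟨L, hL⟩ : ∃ L, L = ((P : Subgroup G).map (QuotientGroup.mk' O)).comap
      (QuotientGroup.mk' O) := ⟨_, rfl⟩
    have hPL : (P : Subgroup G) ≤ L := hL ▸ Subgroup.le_comap_map _ _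
    have hnL : ((n • P : Sylow p G) : Subgroup G) ≤ L := by
      intro x hx
      have hx' := Transfer.mem_coe_smul_sylow_iff.1 hx
      rw [hL, Subgroup.mem_comap]
      have := (mem_set_normalizer_iff.1 hn (QuotientGroup.mk' O (n⁻¹ * x * n))).1
        ⟨_, hx', rfl⟩
      rw [← map_inv, ← map_mul, ← map_mul,
        show n * (n⁻¹ * x * n) * n⁻¹ = x by group] at this
      exact this
    obtain ⟨k, hk, hkn⟩ := Transfer.exists_smul_eq_of_le (n • P) P hnL hPL
    rw [smul_smul] at hkn
    have hkN := Sylow.smul_eq_iff_mem_normalizer.1 hkn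
    rw [hL, Subgroup.mem_comap] at hk
    obtain ⟨z, hz, hzk⟩ := hk
    have hn' : QuotientGroup.mk' O n = (QuotientGroup.mk' O z)⁻¹ * QuotientGroup.mk' O (k * n) := by
      rw [hzk, map_mul, inv_mul_cancel_left]
    rcases h.normalizer _ hkN with hc | hi
    · refine Or.inl (Subgroup.mem_centralizer_iff.2 ?_)
      rintro _ ⟨x, hx, rfl⟩
      rw [hn', ← map_inv, ← map_mul, ← map_mul, ← map_mul]
      congr 1
      rw [← mul_assoc x, h.comm x hx z⁻¹ (inv_mem hz), mul_assoc, mul_assoc,
        Subgroup.mem_centralizer_iff.1 hc x hx]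
    · refine Or.inr ?_
      rintro _ ⟨x, hx, rfl⟩
      rw [hn', ← map_inv, ← map_inv, ← map_mul, ← map_mul, ← map_inv, ← map_mul]
      congr 1
      calc z⁻¹ * (k * n) * x * (z⁻¹ * (k * n))⁻¹ = z⁻¹ * (k * n * x * (k * n)⁻¹) * z := by group
        _ = x⁻¹ := by
          rw [hi x hx, mul_assoc, h.comm _ (inv_mem hx) _ hz, inv_mul_cancel_left]

/-- A subgroup containing the Sylow subgroup either has the hypothesis or a normal complement. -/
theorem InvHyp.isPSolvable_of_le {G : Type u} [Group G] [Finite G] {P : Sylow p G} (h : InvHyp P)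
    {H : Subgroup G} (hPH : (P : Subgroup G) ≤ H)
    (ih : ∀ Q : Sylow p H, InvHyp Q → IsPSolvable p H) : IsPSolvable p H := by
  have hmem : ∀ x : H, x ∈ ((P.subtype hPH : Sylow p H) : Subgroup H) ↔ (x : G) ∈ (P : Subgroup G) :=
    fun x => Subgroup.mem_subgroupOf
  have hN : ∀ n : H, n ∈ Subgroup.normalizer (((P.subtype hPH : Sylow p H) : Subgroup H) : Set H) →
      (n : G) ∈ Subgroup.normalizer ((P : Subgroup G) : Set G) := fun n hn =>
    Subgroup.mem_normalizer_fintype fun x hx =>
      (hmem _).1 ((mem_set_normalizer_iff.1 hn ⟨x, hPH hx⟩).1 ((hmem _).2 hx))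
  by_cases hi : ∃ n : H, ∀ x ∈ (P : Subgroup G), (n : G) * x * (n : G)⁻¹ = x⁻¹
  · refine ih (P.subtype hPH) ⟨fun x hx y hy => Subtype.ext (h.comm _ ((hmem x).1 hx) _ ((hmem y).1 hy)),
      fun hc => h.noncyclic ((Subgroup.subgroupOfEquivOfLe hPH).isCyclic.1 hc), ?_, fun n hn => ?_⟩
    · obtain ⟨n, hn⟩ := hi
      exact ⟨n, fun x hx => Subtype.ext (hn _ ((hmem x).1 hx))⟩
    · rcases h.normalizer _ (hN n hn) with hc | hinv
      · exact Or.inl (Subgroup.mem_centralizer_iff.2 fun x hx =>
          Subtype.ext (Subgroup.mem_centralizer_iff.1 hc _ ((hmem x).1 hx)))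
      · exact Or.inr fun x hx => Subtype.ext (hinv _ ((hmem x).1 hx))
  have hle : Subgroup.normalizer (((P.subtype hPH : Sylow p H) : Subgroup H) : Set H) ≤
      Subgroup.centralizer (((P.subtype hPH : Sylow p H) : Subgroup H) : Set H) := fun n hn => by
    rcases h.normalizer _ (hN n hn) with hc | hinv
    · exact Subgroup.mem_centralizer_iff.2 fun x hx =>
        Subtype.ext (Subgroup.mem_centralizer_iff.1 hc _ ((hmem x).1 hx))
    · exact absurd ⟨n, hinv⟩ hi
  have hcompl := MonoidHom.ker_transferSylow_isComplement' (P.subtype hPH) hle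
  refine CfsgLib.PLocal.isPSolvable_of_normal (MonoidHom.transferSylow (P.subtype hPH) hle).ker
    (CfsgLib.PLocal.isPSolvable_of_coprime ?_) (CfsgLib.PLocal.isPSolvable_of_isPGroup ?_)
  · rw [← hcompl.index_eq_card]
    exact ((Fact.out : p.Prime).coprime_iff_not_dvd.2 (P.subtype hPH).not_dvd_index).symm
  · obtain ⟨k, hk⟩ := IsPGroup.iff_card.1 (P.subtype hPH).2
    refine IsPGroup.of_card (n := k) ?_
    rw [← Subgroup.index_eq_card, hcompl.symm.index_eq_card, hk]

/-- **`p`-solvability.** -/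
theorem InvHyp.isPSolvable (hp : p ≠ 2) : ∀ (N : ℕ) (G : Type u) [Group G] [Finite G]
    (P : Sylow p G), Nat.card G = N → InvHyp P → IsPSolvable p G := by
  intro N
  induction N using Nat.strong_induction_on with
  | _ N IH =>
    intro G _ _ P hN h
    subst hN
    haveI : Fintype G := Fintype.ofFinite G
    haveI hP : Nontrivial (P : Subgroup G) := Finite.one_lt_card_iff_nontrivial.1 (by
      have := h.nine_le_card hp; omega)
    haveI : Nontrivial G := Function.Injective.nontrivial Subtype.val_injective (α := (P : Subgroup G))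
    by_cases hO : pPrimeCore p G = ⊥
    swap
    · have hlt : Nat.card (G ⧸ pPrimeCore p G) < Nat.card G := by
        haveI := (Subgroup.nontrivial_iff_ne_bot _).2 hO
        rw [Subgroup.card_eq_card_quotient_mul_card_subgroup (pPrimeCore p G)]
        exact lt_mul_of_one_lt_right Nat.card_pos Finite.one_lt_card
      exact CfsgLib.PLocal.isPSolvable_of_normal (pPrimeCore p G)
        (CfsgLib.PLocal.isPSolvable_of_coprime (pPrimeCore_coprime p G))
        (IH _ hlt _ _ rfl (h.quotient _ (pPrimeCore_coprime p G)))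
    have hsub : ∀ H : Subgroup G, H ≠ ⊤ → (P : Subgroup G) ≤ H → IsPSolvable p H :=
      fun H hH hPH => h.isPSolvable_of_le hPH fun Q hQ => IH _ (by
        refine lt_of_le_of_ne (Subgroup.card_le_card_group H) fun e => hH ?_
        exact Subgroup.eq_top_of_card_eq H e) H Q rfl hQ
    obtain ⟨t, ht⟩ := h.exists_inv
    by_cases hsimple : IsSimpleGroup G
    · exact absurd hsimple (h.not_isSimpleGroup hp)
    obtain ⟨M, hMn, hMb, hMt⟩ : ∃ M : Subgroup G, M.Normal ∧ M ≠ ⊥ ∧ M ≠ ⊤ := by
      by_contra hn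
      push Not at hn
      exact hsimple ⟨fun M hM => or_iff_not_imp_left.2 (hn M hM)⟩
    haveI := hMn
    have hM : IsPSolvable p M := by
      by_cases hPM : (P : Subgroup G) ≤ M
      · exact hsub M hMt hPM
      by_cases htop : M ⊔ (P : Subgroup G) = ⊤
      swap
      · exact CfsgLib.PLocal.isPSolvable_of_le le_sup_left (hsub _ htop le_sup_right)
      exfalso
      refine hPM fun x hx => ?_
      obtain ⟨k, hk⟩ : ∃ k, M.index = p ^ k := by
        have hmap : (P : Subgroup G).map (QuotientGroup.mk' M) = ⊤ := by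
          rw [eq_top_iff, ← Subgroup.map_top_of_surjective _ (QuotientGroup.mk'_surjective M),
            ← htop, Subgroup.map_sup, QuotientGroup.map_mk'_self, bot_sup_eq]
        have h2 := P.isPGroup'.map (QuotientGroup.mk' M)
        rw [hmap] at h2
        obtain ⟨k, hk⟩ := IsPGroup.iff_card.1 h2
        exact ⟨k, by rw [← hk, Subgroup.card_top, Subgroup.index_eq_card]⟩
      obtain ⟨j, hj⟩ : ∃ j, p ^ k = 2 * j + 1 :=
        ((Fact.out : p.Prime).odd_of_ne_two hp).pow
      have htM : t ^ (2 * j + 1) ∈ M := by rw [← hj, ← hk]; exact M.pow_index_mem t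
      have hx2 : x ^ 2 ∈ M := by
        have h3 := mul_mem (hMn.conj_mem _ htM x) (inv_mem htM)
        rwa [show x * t ^ (2 * j + 1) * x⁻¹ * (t ^ (2 * j + 1))⁻¹ =
          x * (t ^ (2 * j + 1) * x⁻¹ * (t ^ (2 * j + 1))⁻¹) by group,
          odd_pow_conj ht j x⁻¹ (inv_mem hx), inv_inv, ← sq] at h3
      obtain ⟨a, ha⟩ := P.2 ⟨x, hx⟩
      have ha' : x ^ p ^ a = 1 := by simpa using congrArg Subtype.val ha
      obtain ⟨b, hb⟩ : ∃ b, p ^ a = 2 * b + 1 := ((Fact.out : p.Prime).odd_of_ne_two hp).pow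
      have : x = ((x ^ 2) ^ b)⁻¹ := by
        rw [← pow_mul]
        exact eq_inv_of_mul_eq_one_left (by rw [← pow_succ', ← hb, ha'])
      rw [this]
      exact inv_mem (pow_mem hx2 b)
    haveI : Nontrivial M := (Subgroup.nontrivial_iff_ne_bot M).2 hMb
    have hR : pCore p G ≠ ⊥ := by
      intro hb
      rcases CfsgLib.PLocal.pCore_ne_bot_or_pPrimeCore_ne_bot hM with h1 | h1
      · refine h1 ((Subgroup.map_eq_bot_iff_of_injective _ M.subtype_injective).1 (le_bot_iff.1 ?_))
        rw [← hb]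
        exact map_pCore_le_of_isSubnormal (Normal.isSubnormal hMn)
      · refine h1 ((Subgroup.map_eq_bot_iff_of_injective _ M.subtype_injective).1 (le_bot_iff.1 ?_))
        rw [← hO]
        exact map_pPrimeCore_le_of_isSubnormal (Normal.isSubnormal hMn)
    haveI := (inferInstance : (pCore p G).Normal)
    obtain ⟨C, hC⟩ : ∃ C, C = Subgroup.centralizer ((pCore p G : Subgroup G) : Set G) := ⟨_, rfl⟩
    haveI hCn : C.Normal := hC ▸ inferInstance
    have hPC : (P : Subgroup G) ≤ C := fun x hx => hC ▸ Subgroup.mem_centralizer_iff.2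
      fun y hy => h.comm y (pCore_le_sylow P hy) x hx
    have hCt : C ≠ ⊤ := by
      intro htop
      obtain ⟨y, hy, hy1⟩ := (Subgroup.bot_or_exists_ne_one (pCore p G)).resolve_left hR
      have htC : t ∈ C := htop ▸ Subgroup.mem_top t
      rw [hC] at htC
      have h2 := ht y (pCore_le_sylow P hy)
      rw [← Subgroup.mem_centralizer_iff.1 htC y hy, mul_inv_cancel_right] at h2
      exact hy1 (eq_one_of_inv_eq hp P (pCore_le_sylow P hy) h2)
    refine CfsgLib.PLocal.isPSolvable_of_normal C (hsub C hCt hPC)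
      (CfsgLib.PLocal.isPSolvable_of_coprime ?_)
    exact (((Fact.out : p.Prime).coprime_iff_not_dvd.2 P.not_dvd_index).symm).coprime_dvd_left
      (by rw [← Subgroup.index_eq_card]; exact Subgroup.index_dvd_of_le hPC)

end CfsgLib.SmithTyrer
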