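import Cfsg.Agent.Lib.Transfer.Fusion
import Cfsg.Agent.Lib.Blocks.StarFun
import Cfsg.Agent.Lib.Chars.MonSpan
import Cfsg.Agent.Lib.Chars.DefectZero
import Cfsg.Agent.Lib.CharsMore.BrauerInduction

/-!
# Abelian Sylow subgroups with an inverting automizer: elementary facts and `p`-parts
-/

set_option autoImplicit false
set_option linter.style.haveILetI false
set_option linter.unusedSectionVars false

namespace CfsgLib.SmithTyrer

open Cfsg CfsgLib.Chars CfsgLib.BlockOrth CfsgLib.Blocks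
open scoped ComplexConjugate

universe u

variable {G : Type u} [Group G] {p : ℕ}

/-- An abelian noncyclic Sylow subgroup on which the normalizer induces the group of order two
generated by inversion. -/
structure InvHyp (P : Sylow p G) : Prop where
  comm : ∀ x ∈ (P : Subgroup G), ∀ y ∈ (P : Subgroup G), x * y = y * x
  noncyclic : ¬ IsCyclic (P : Subgroup G)
  exists_inv : ∃ t : G, ∀ x ∈ (P : Subgroup G), t * x * t⁻¹ = x⁻¹
  normalizer : ∀ n ∈ Subgroup.normalizer ((P : Subgroup G) : Set G),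
    n ∈ Subgroup.centralizer ((P : Subgroup G) : Set G) ∨
      ∀ x ∈ (P : Subgroup G), n * x * n⁻¹ = x⁻¹

variable [Fact p.Prime]

theorem eq_one_of_inv_eq (hp : p ≠ 2) (P : Sylow p G) {x : G} (hx : x ∈ (P : Subgroup G))
    (h : x = x⁻¹) : x = 1 := by
  obtain ⟨k, hk⟩ := P.2 ⟨x, hx⟩
  have hk' : x ^ p ^ k = 1 := by simpa using congrArg Subtype.val hk
  have h2 : x ^ 2 = 1 := by rw [sq]; nth_rw 2 [h]; exact mul_inv_cancel x
  have hc : Nat.Coprime (p ^ k) 2 :=
    Nat.Coprime.pow_left k ((Nat.coprime_primes Fact.out Nat.prime_two).2 hp)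
  simpa [Nat.Coprime] using (by rw [← hc]; exact pow_gcd_eq_one.2 ⟨hk', h2⟩ : x ^ 1 = 1)

theorem InvHyp.mem_centralizer {P : Sylow p G} (h : InvHyp P) {x : G}
    (hx : x ∈ (P : Subgroup G)) : x ∈ Subgroup.centralizer ((P : Subgroup G) : Set G) :=
  Subgroup.mem_centralizer_iff.2 fun y hy => h.comm y hy x hx

theorem InvHyp.free {P : Sylow p G} (hp : p ≠ 2) (h : InvHyp P) :
    ∀ g ∈ Subgroup.normalizer ((P : Subgroup G) : Set G), ∀ x ∈ (P : Subgroup G), x ≠ 1 →
      g * x * g⁻¹ = x → g ∈ Subgroup.centralizer ((P : Subgroup G) : Set G) :=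
  fun g hg x hx hx1 he => (h.normalizer g hg).resolve_right fun hi =>
    hx1 (eq_one_of_inv_eq hp P hx (he.symm.trans (hi x hx)))

theorem InvHyp.fusion [Finite G] {P : Sylow p G} (h : InvHyp P) {g x : G}
    (hx : x ∈ (P : Subgroup G)) (hgx : g * x * g⁻¹ ∈ (P : Subgroup G)) :
    g * x * g⁻¹ = x ∨ g * x * g⁻¹ = x⁻¹ := by
  obtain ⟨n, hn, he⟩ := CfsgLib.Transfer.exists_mem_normalizer_conj P (h.mem_centralizer hx)
    (h.mem_centralizer hgx) (g := g) rfl
  rcases h.normalizer n hn with hc | hi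
  · left
    rw [← he, ← Subgroup.mem_centralizer_iff.1 hc x hx, mul_inv_cancel_right]
  · exact Or.inr (he.symm.trans (hi x hx))

section Parts

variable [Fintype G]

theorem pPartElt_spec (g : G) : Commute (pPartElt p g) (pPrimePart p g) ∧
    (∃ k, orderOf (pPartElt p g) = p ^ k) ∧ pPartElt p g * pPrimePart p g = g := by
  obtain ⟨u, h1, h2, h3, -⟩ := isPPrimePart_pPrimePart (p := p) g
  have e : pPartElt p g = u := by rw [pPartElt, mul_inv_eq_iff_eq_mul]; exact h1.symm
  rw [e]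
  exact ⟨h2, h3, h1⟩

theorem pow_pPartElt (g : G) : ∃ k : ℕ, pPartElt p g ^ p ^ k = 1 := by
  obtain ⟨k, hk⟩ := (pPartElt_spec (p := p) g).2.1
  exact ⟨k, hk ▸ pow_orderOf_eq_one _⟩

theorem pPartElt_of_regular {g : G} (hg : ¬ p ∣ orderOf g) : pPartElt p g = 1 := by
  rw [pPartElt, pPrimePart_of_regular hg, mul_inv_cancel]

theorem pPartElt_ne_one {g : G} (hg : p ∣ orderOf g) : pPartElt p g ≠ 1 := fun h => by
  have h2 := (pPartElt_spec (p := p) g).2.2
  rw [h, one_mul] at h2
  exact not_dvd_orderOf_pPrimePart (p := p) g (h2.symm ▸ hg)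

theorem pPartElt_eq_one_iff {g : G} : pPartElt p g = 1 ↔ ¬ p ∣ orderOf g :=
  ⟨fun h hd => pPartElt_ne_one hd h, pPartElt_of_regular⟩

theorem pPartElt_map {H : Type u} [Group H] [Fintype H] (f : G →* H) (g : G) :
    pPartElt p (f g) = f (pPartElt p g) := by
  obtain ⟨hc, -, he⟩ := pPartElt_spec (p := p) g
  obtain ⟨k, hk⟩ := pow_pPartElt (p := p) g
  conv_lhs => rw [← he, map_mul]
  exact pPartElt_mul (hc.map f) ⟨k, by rw [← map_pow, hk, map_one]⟩
    fun hd => not_dvd_orderOf_pPrimePart (p := p) g (hd.trans (orderOf_map_dvd f _))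

theorem exists_pPartElt_conj (P : Sylow p G) (g : G) :
    ∃ c : G, c * pPartElt p g * c⁻¹ ∈ (P : Subgroup G) := by
  obtain ⟨k, hk⟩ := (pPartElt_spec (p := p) g).2.1
  obtain ⟨T, hT⟩ := (IsPGroup.of_card (p := p) (n := k)
    (G := Subgroup.zpowers (pPartElt p g)) (by rw [Nat.card_zpowers, hk])).exists_le_sylow
  obtain ⟨c, rfl⟩ := MulAction.exists_smul_eq G P T
  refine ⟨c⁻¹, ?_⟩
  rw [inv_inv]
  exact Transfer.mem_coe_smul_sylow_iff.1 (hT (Subgroup.mem_zpowers _))

/-- In a nilpotent subgroup the `p`-part and the `p'`-part are multiplicative. -/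
theorem parts_mul_of_nilpotent (E : Subgroup G) [Group.IsNilpotent E] {g h : G} (hg : g ∈ E)
    (hh : h ∈ E) :
    pPartElt p (g * h) = pPartElt p g * pPartElt p h ∧
      pPrimePart p (g * h) = pPrimePart p g * pPrimePart p h := by
  obtain ⟨P⟩ : Nonempty (Sylow p E) := inferInstance
  obtain ⟨Q, hQ, -, -, hQc⟩ := exists_pRegular_subgroup P
  have hPn : (P : Subgroup E).Normal :=
    P.normal_of_normalizerCondition Group.normalizerCondition_of_isNilpotent
  have hpp : ∀ a ∈ E, pPrimePart p a ∈ E := fun a ha => by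
    obtain ⟨n, hn⟩ := (isPPrimePart_pPrimePart (p := p) a).exists_pow
    exact hn ▸ pow_mem ha n
  have hpe : ∀ a ∈ E, pPartElt p a ∈ E := fun a ha => mul_mem ha (inv_mem (hpp a ha))
  have hP : ∀ e : E, (∃ k, orderOf (e : G) = p ^ k) → e ∈ (P : Subgroup E) := by
    intro e ⟨k, hk⟩
    obtain ⟨T, hT⟩ := (IsPGroup.of_card (p := p) (n := k) (G := Subgroup.zpowers e)
      (by rw [Nat.card_zpowers, ← Subgroup.orderOf_coe, hk])).exists_le_sylow
    obtain ⟨c, rfl⟩ := MulAction.exists_smul_eq E P T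
    have := hT (Subgroup.mem_zpowers e)
    rw [Transfer.mem_coe_smul_sylow_iff] at this
    simpa [mul_assoc] using hPn.conj_mem _ this c
  have hQ' : ∀ e : E, ¬ p ∣ orderOf (e : G) → e ∈ Q := fun e he =>
    (hQ e).2 (by rwa [Subgroup.orderOf_coe] at he)
  have hcomm : ∀ x ∈ (P : Subgroup E), ∀ y ∈ Q, Commute (x : G) (y : G) := fun x hx y hy =>
    (congrArg Subtype.val (hQc y hy x hx).symm :)
  have ha : (⟨_, hpe g hg⟩ : E) ∈ (P : Subgroup E) := hP _ (pPartElt_spec g).2.1
  have ha' : (⟨_, hpe h hh⟩ : E) ∈ (P : Subgroup E) := hP _ (pPartElt_spec h).2.1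
  have hb : (⟨_, hpp g hg⟩ : E) ∈ Q := hQ' _ (not_dvd_orderOf_pPrimePart g)
  have hb' : (⟨_, hpp h hh⟩ : E) ∈ Q := hQ' _ (not_dvd_orderOf_pPrimePart h)
  have e3 : g * h = pPartElt p g * pPartElt p h * (pPrimePart p g * pPrimePart p h) := by
    conv_lhs => rw [← (pPartElt_spec (p := p) g).2.2, ← (pPartElt_spec (p := p) h).2.2]
    exact (hcomm _ ha' _ hb).symm.mul_mul_mul_comm _ _
  have h1 : Commute (pPartElt p g * pPartElt p h) (pPrimePart p g * pPrimePart p h) :=
    hcomm _ (mul_mem ha ha') _ (mul_mem hb hb')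
  obtain ⟨k, hk⟩ : ∃ k, orderOf (pPartElt p g * pPartElt p h) = p ^ k := by
    obtain ⟨k, hk⟩ := (IsPGroup.iff_orderOf.1 P.2) ⟨_, mul_mem ha ha'⟩
    exact ⟨k, by simpa [← Subgroup.orderOf_coe] using hk⟩
  have h2 : ¬ p ∣ orderOf (pPrimePart p g * pPrimePart p h) := by
    have := (hQ _).1 (mul_mem hb hb')
    rwa [← Subgroup.orderOf_coe] at this
  refine ⟨?_, ?_⟩
  · rw [e3]; exact pPartElt_mul h1 ⟨k, hk ▸ pow_orderOf_eq_one _⟩ h2
  · rw [e3]; exact pPrimePart_mul h1 ⟨k, hk⟩ h2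

theorem pPrimePart_mem (H : Subgroup G) {g : G} (hg : g ∈ H) : pPrimePart p g ∈ H := by
  obtain ⟨n, hn⟩ := (isPPrimePart_pPrimePart (p := p) g).exists_pow
  exact hn ▸ pow_mem hg n

/-- The `p'`-part as an endomorphism of a nilpotent subgroup. -/
noncomputable def regPartHom (p : ℕ) [Fact p.Prime] (E : Subgroup G) [Group.IsNilpotent E] :
    E →* E where
  toFun e := ⟨pPrimePart p (e : G), pPrimePart_mem E e.2⟩
  map_one' := Subtype.ext (pPrimePart_of_regular (by
    rw [Subgroup.coe_one, orderOf_one]; exact (Fact.out : p.Prime).not_dvd_one))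
  map_mul' e e' := Subtype.ext (parts_mul_of_nilpotent E e.2 e'.2).2

theorem regPartHom_apply (E : Subgroup G) [Group.IsNilpotent E] (e : E) :
    (regPartHom p E e : G) = pPrimePart p (e : G) := rfl

/-- The `p`-part as a homomorphism on a nilpotent subgroup. -/
noncomputable def pPartHom (p : ℕ) [Fact p.Prime] (E : Subgroup G) [Group.IsNilpotent E] :
    E →* G where
  toFun e := pPartElt p (e : G)
  map_one' := pPartElt_of_regular (by
    rw [Subgroup.coe_one, orderOf_one]; exact (Fact.out : p.Prime).not_dvd_one)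
  map_mul' e e' := (parts_mul_of_nilpotent E e.2 e'.2).1

/-- The `p`-parts of a nilpotent subgroup can be conjugated into a given Sylow subgroup. -/
theorem exists_hom_sylow (E : Subgroup G) [Group.IsNilpotent E] (S : Sylow p G) :
    ∃ (c : G) (f : E →* (S : Subgroup G)), ∀ e : E, (f e : G) = c⁻¹ * pPartElt p (e : G) * c := by
  have hR : IsPGroup p (pPartHom p E).range := by
    rw [IsPGroup.iff_orderOf]
    rintro ⟨x, hx⟩
    obtain ⟨e, rfl⟩ := MonoidHom.mem_range.1 hx
    rw [← Subgroup.orderOf_coe]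
    exact (pPartElt_spec (e : G)).2.1
  obtain ⟨T, hT⟩ := hR.exists_le_sylow
  obtain ⟨c, rfl⟩ := MulAction.exists_smul_eq G S T
  have hmem : ∀ e : E, c⁻¹ * pPartElt p (e : G) * c ∈ (S : Subgroup G) := fun e =>
    Transfer.mem_smul_sylow_iff.1 (hT ⟨e, rfl⟩)
  refine ⟨c, (((MulAut.conj c⁻¹).toMonoidHom.comp (pPartHom p E)).codRestrict (S : Subgroup G)
    fun e => ?_), fun e => ?_⟩
  · simpa [pPartHom] using hmem e
  · simp [pPartHom]

/-- A class function of the `p`-part is a generalized character as soon as its restriction to a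
Sylow subgroup is one. -/
theorem isGeneralized_comp_pPart {φ : G → ℂ} (hφ : IsClassFunction G φ)
    (S : Sylow p G) (hS : IsGeneralizedCharacter S (fun s : S => φ s)) :
    IsGeneralizedCharacter G (fun g => φ (pPartElt p g)) := by
  refine CharsMore.isGeneralized_of_elementary (fun g h => ?_) fun E r hr hE => ?_
  · show φ (pPartElt p (h * g * h⁻¹)) = φ (pPartElt p g)
    rw [pPartElt_conj]
    exact hφ _ _
  haveI : Group.IsNilpotent E := isNilpotent_of_isElementary hr hE
  obtain ⟨c, f, hf⟩ := exists_hom_sylow E S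
  obtain ⟨a, b, ha, hb, hab⟩ := hS
  refine ⟨fun e => a (f e), fun e => b (f e), isCharacter_comp f ha, isCharacter_comp f hb,
    funext fun e => ?_⟩
  have h2 : φ (f e : G) = a (f e) - b (f e) := congrFun hab (f e)
  show φ (pPartElt p (e : G)) = a (f e) - b (f e)
  rw [← h2, hf]
  simpa using (hφ (pPartElt p (e : G)) c⁻¹).symm

end Parts

end CfsgLib.SmithTyrer
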