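import Cfsg.Agent.Lib.SmithTyrer.Lifts
import Cfsg.Agent.Lib.BlockOrth.Contribution

/-!
# The two projective generalized characters of the cover
-/

set_option autoImplicit false
set_option linter.style.haveILetI false
set_option linter.unusedSectionVars false

namespace CfsgLib.SmithTyrer

open Cfsg CfsgLib.Chars CfsgLib.BlockOrth CfsgLib.Blocks Finset
open scoped ComplexConjugate

universe u

variable {G : Type u} [Group G] [Fintype G] {p : ℕ} [Fact p.Prime] {P : Sylow p G}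
  {K : Type u} [Group K] [Fintype K] {π : K →* G}
  {φ₁ φ₂ : (P : Subgroup G) →* Multiplicative (ZMod p)}

open scoped Classical in
/-- The central character, extended by zero. -/
noncomputable def kerFun (lam : π.ker →* ℂ) (z : K) : ℂ :=
  if h : z ∈ π.ker then lam ⟨z, h⟩ else 0

theorem kerFun_of_mem (lam : π.ker →* ℂ) {z : K} (h : z ∈ π.ker) :
    kerFun lam z = lam ⟨z, h⟩ := dif_pos h

theorem kerFun_of_not_mem (lam : π.ker →* ℂ) {z : K} (h : z ∉ π.ker) : kerFun lam z = 0 :=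
  dif_neg h

theorem kerFun_one (lam : π.ker →* ℂ) : kerFun lam 1 = 1 := by
  rw [kerFun_of_mem lam (one_mem _)]
  exact map_one lam

theorem mul_conj_of_pow {w : ℂ} {n : ℕ} (hn : n ≠ 0) (h : w ^ n = 1) : w * conj w = 1 := by
  rw [Complex.mul_conj, Complex.normSq_eq_norm_sq, Complex.norm_eq_one_of_pow_eq_one h hn,
    one_pow, Complex.ofReal_one]

theorem kerFun_norm (lam : π.ker →* ℂ) {z : K} (h : z ∈ π.ker) :
    kerFun lam z * conj (kerFun lam z) = 1 := by
  rw [kerFun_of_mem lam h]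
  exact mul_conj_of_pow (n := Nat.card π.ker) Nat.card_pos.ne'
    (by rw [← map_pow, pow_card_eq_one', map_one])

variable {T : K}

variable (φ₁ φ₂ T) in
open scoped Classical in
/-- The stable class function on `p`-elements of the cover. -/
noncomputable def thetaFun (lam : π.ker →* ℂ) (k : K) : ℂ :=
  if h : ∃ z, HasCoord π φ₁ φ₂ T k z then (p : ℂ) * kerFun lam h.choose else 0

theorem IsCover.thetaFun_eq (D : IsCover π φ₁ φ₂)
    (hT : ∀ x ∈ (P : Subgroup G), π T * x * (π T)⁻¹ = x⁻¹) (lam : π.ker →* ℂ) {k z : K}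
    (h : HasCoord π φ₁ φ₂ T k z) : thetaFun φ₁ φ₂ T lam k = (p : ℂ) * kerFun lam z := by
  classical
  rw [thetaFun, dif_pos ⟨z, h⟩, D.coord_unique hT (Exists.choose_spec (⟨z, h⟩ :
    ∃ z, HasCoord π φ₁ φ₂ T k z)) h]

theorem thetaFun_zero (lam : π.ker →* ℂ) {k : K} (h : ¬ ∃ z, HasCoord π φ₁ φ₂ T k z) :
    thetaFun φ₁ φ₂ T lam k = 0 := by
  classical
  exact dif_neg h

theorem IsCover.thetaFun_ker (D : IsCover π φ₁ φ₂)
    (hT : ∀ x ∈ (P : Subgroup G), π T * x * (π T)⁻¹ = x⁻¹) (lam : π.ker →* ℂ) {z : K}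
    (hz : z ∈ π.ker) : thetaFun φ₁ φ₂ T lam z = (p : ℂ) * kerFun lam z :=
  D.thetaFun_eq hT lam ⟨hz, 1, 1, inverted_one, by rw [map_one]; exact one_mem _, by group⟩

theorem IsCover.isClassFunction_thetaFun (D : IsCover π φ₁ φ₂)
    (hT : ∀ x ∈ (P : Subgroup G), π T * x * (π T)⁻¹ = x⁻¹) (lam : π.ker →* ℂ) :
    IsClassFunction K (thetaFun φ₁ φ₂ T lam) := by
  intro k c
  by_cases h : ∃ z, HasCoord π φ₁ φ₂ T k z
  · obtain ⟨z, hz⟩ := h
    rw [D.thetaFun_eq hT lam hz, D.thetaFun_eq hT lam (hasCoord_conj c hz)]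
  · rw [thetaFun_zero lam h, thetaFun_zero lam]
    rintro ⟨z, hz⟩
    have h2 := hasCoord_conj c⁻¹ hz
    rw [show c⁻¹ * (c * k * c⁻¹) * c⁻¹⁻¹ = k by group] at h2
    exact h ⟨z, h2⟩

/-- The stable function is a generalized character of a Sylow subgroup of the cover. -/
theorem IsCover.isGeneralized_thetaFun_sylow (D : IsCover π φ₁ φ₂)
    (hT : ∀ x ∈ (P : Subgroup G), π T * x * (π T)⁻¹ = x⁻¹) {lam : π.ker →* ℂ}
    (hlam : Function.Injective lam) :
    IsGeneralizedCharacter ((P : Subgroup G).comap π)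
      (fun s : ((P : Subgroup G).comap π) => thetaFun φ₁ φ₂ T lam s) := by
  classical
  obtain ⟨Φ, hΦ⟩ : ∃ Φ : (P : Subgroup G).comap π →* Multiplicative (ZMod p),
      ∀ s : (P : Subgroup G).comap π, Φ s = φ₁ ⟨π s, s.2⟩ :=
    ⟨φ₁.comp (π.subgroupComap (P : Subgroup G)), fun s => rfl⟩
  have hA : ∀ a : Φ.ker, φ₁ ⟨π ((a : (P : Subgroup G).comap π) : K), a.1.2⟩ = 1 := fun a => by
    rw [← hΦ]; exact a.2
  have hhat : ∀ s : (P : Subgroup G).comap π, ∃ y, Inverted π P T y ∧ π y = π s := fun s =>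
    D.exists_inverted hT s.2
  choose hat hhat1 hhat2 using hhat
  have hcomA : ∀ a b : K, ∀ (ha : π a ∈ (P : Subgroup G)) (hb : π b ∈ (P : Subgroup G)),
      φ₁ ⟨π a, ha⟩ = 1 → φ₁ ⟨π b, hb⟩ = 1 → a * b = b * a := fun a b ha hb e1 e2 =>
    (D.comm a b ha hb).2 (by rw [e1, e2, toAdd_one]; ring)
  have hz : ∀ s : (P : Subgroup G).comap π, (s : K) * (hat s)⁻¹ ∈ π.ker := fun s => by
    rw [MonoidHom.mem_ker, map_mul, map_inv, hhat2, mul_inv_cancel]
  have hhatmul : ∀ a b : Φ.ker, hat (a.1 * b.1) = hat a.1 * hat b.1 := fun a b => by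
    refine D.inverted_unique (hhat1 _) (inverted_mul (hhat1 _) (hhat1 _)
      (hcomA _ _ (hhat1 _).1 (hhat1 _).1 ?_ ?_)) ?_
    · rw [← hA a]; exact congrArg φ₁ (Subtype.ext (hhat2 _))
    · rw [← hA b]; exact congrArg φ₁ (Subtype.ext (hhat2 _))
    · rw [hhat2, map_mul π (hat a.1), hhat2, hhat2]
      exact map_mul π _ _
  have hhat_one : hat 1 = 1 := D.inverted_unique (hhat1 1) inverted_one (by rw [hhat2]; rfl)
  let μ : Φ.ker →* ℂ := lam.comp
    { toFun := fun a => ⟨_, hz a.1⟩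
      map_one' := Subtype.ext (by
        show ((1 : (P : Subgroup G).comap π) : K) * (hat 1)⁻¹ = 1
        rw [hhat_one, inv_one, mul_one]; rfl)
      map_mul' := fun a b => Subtype.ext (by
        show (a.1 : K) * (b.1 : K) * (hat (a.1 * b.1))⁻¹ =
          (a.1 : K) * (hat a.1)⁻¹ * ((b.1 : K) * (hat b.1)⁻¹)
        rw [hhatmul, mul_inv_rev]
        calc (a.1 : K) * b.1 * ((hat b.1)⁻¹ * (hat a.1)⁻¹)
            = (a.1 : K) * ((b.1 : K) * (hat b.1)⁻¹ * (hat a.1)⁻¹) := by group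
          _ = _ := by rw [← D.ker_comm (hz b.1)]; group) }
  have hμ : ∀ a : Φ.ker, μ a = lam ⟨_, hz a.1⟩ := fun a => rfl
  have hsurj : Φ.range = ⊤ := by
    haveI : Fact (Nat.card (Multiplicative (ZMod p))).Prime := ⟨by simpa using (Fact.out : p.Prime)⟩
    refine (Φ.range.eq_bot_or_eq_top_of_prime_card).resolve_left fun hb => ?_
    obtain ⟨b, hb'⟩ := D.nontriv
    obtain ⟨k, hk⟩ := D.surj (b : G)
    have hkP : k ∈ (P : Subgroup G).comap π := by rw [Subgroup.mem_comap, hk]; exact b.2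
    have h1 : Φ ⟨k, hkP⟩ = 1 := Subgroup.mem_bot.1 (hb ▸ ⟨_, rfl⟩)
    rw [hΦ] at h1
    exact hb' (by rw [← h1]; exact congrArg φ₁ (Subtype.ext hk.symm))
  have hcard : (Nat.card ((P : Subgroup G).comap π) : ℂ) = (p : ℂ) * Nat.card Φ.ker := by
    have h := Φ.ker.index_mul_card
    rw [Subgroup.index_ker, hsurj, Subgroup.card_top] at h
    rw [← h]
    simp
  refine cast (congrArg _ (funext fun s => ?_))
    (isGeneralized_indFun Φ.ker (θ := fun a => μ a)
      ⟨fun a => μ a, 0, isCharacter_of_irr (isIrrCharacter_linear μ.toHomUnits), isCharacter_zero,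
        (sub_zero _).symm⟩)
  rw [indFun_apply]
  by_cases hs : s ∈ Φ.ker
  swap
  · rw [thetaFun_zero, Finset.sum_eq_zero fun b _ => extendByZero_of_not_mem _ _ fun hm => hs ?_,
      mul_zero]
    · have := Φ.normal_ker.conj_mem _ hm b
      simpa [mul_assoc] using this
    · intro hz'
      have hR := (D.exists_coord_iff hT (s : K) (g := 1) s.2 (by simp)).1 hz'
      exact hs (MonoidHom.mem_ker.2 (by rw [hΦ]; exact ((mem_formKer φ₁ φ₂ s.2).1 hR).1))
  have hcm : ∀ b : (P : Subgroup G).comap π, (b : K)⁻¹ * s * b * (s : K)⁻¹ ∈ π.ker := fun b => by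
    rw [MonoidHom.mem_ker, map_mul, map_mul, map_mul, map_inv, map_inv,
      mul_assoc ((π (b : K))⁻¹), D.hyp.comm _ s.2 _ b.2, inv_mul_cancel_left, mul_inv_cancel]
  let κ : (P : Subgroup G).comap π →* π.ker :=
    { toFun := fun b => ⟨_, hcm b⟩
      map_one' := Subtype.ext (by simp)
      map_mul' := fun b c => Subtype.ext (by
        show ((b : K) * c)⁻¹ * s * ((b : K) * c) * (s : K)⁻¹ =
          (b : K)⁻¹ * s * b * (s : K)⁻¹ * ((c : K)⁻¹ * s * c * (s : K)⁻¹)
        calc ((b : K) * c)⁻¹ * s * ((b : K) * c) * (s : K)⁻¹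
            = (c : K)⁻¹ * ((b : K)⁻¹ * s * b * (s : K)⁻¹) * (s * c * (s : K)⁻¹) := by group
          _ = _ := by rw [D.ker_comm (hcm b)]; group) }
  have hterm : ∀ b : (P : Subgroup G).comap π,
      extendByZero Φ.ker (fun a => μ a) (b⁻¹ * s * b) = μ ⟨s, hs⟩ * lam (κ b) := by
    intro b
    have hm : b⁻¹ * s * b ∈ Φ.ker := by
      have := Φ.normal_ker.conj_mem _ hs b⁻¹
      simpa using this
    rw [extendByZero_of_mem _ _ hm, hμ, hμ, ← map_mul]
    refine congrArg lam (Subtype.ext ?_)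
    have hh : hat (b⁻¹ * s * b) = hat s := D.inverted_unique (hhat1 _) (hhat1 _) (by
      rw [hhat2, hhat2]
      show π ((b : K)⁻¹ * s * b) = π s
      rw [map_mul, map_mul, map_inv, mul_assoc, D.hyp.comm _ s.2 _ b.2, inv_mul_cancel_left])
    show (b : K)⁻¹ * s * b * (hat (b⁻¹ * s * b))⁻¹ = s * (hat s)⁻¹ * ((b : K)⁻¹ * s * b * (s : K)⁻¹)
    rw [hh, D.ker_comm (hcm b)]
    group
  rw [Finset.sum_congr rfl fun b _ => hterm b, ← Finset.mul_sum]
  change _ * (_ * ∑ b, (lam.comp κ) b) = _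
  rw [sum_hom_units]
  have hA0 : (Nat.card Φ.ker : ℂ) ≠ 0 := card_ne_zero _
  by_cases hR : π (s : K) ∈ formKer φ₁ φ₂
  · have h1 : lam.comp κ = 1 := MonoidHom.ext fun b => by
      show lam (κ b) = 1
      rw [show κ b = 1 from Subtype.ext (by
        show (b : K)⁻¹ * s * b * (s : K)⁻¹ = 1
        rw [mul_assoc (b : K)⁻¹, ← D.comm_formKer (show π (b : K) ∈ _ from b.2) hR,
          inv_mul_cancel_left, mul_inv_cancel]), map_one]
    rw [if_pos h1, ← Nat.card_eq_fintype_card, hcard,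
      D.thetaFun_eq hT lam (z := (s : K) * (hat s)⁻¹) ⟨hz s, 1, hat s, hhat1 s,
        by rw [hhat2]; exact hR, by group⟩, kerFun_of_mem lam (hz s), hμ]
    field_simp
  · rw [if_neg, thetaFun_zero, Nat.cast_zero, mul_zero, mul_zero]
    · intro hz'
      exact hR ((D.exists_coord_iff hT (s : K) (g := 1) s.2 (by simp)).1 hz')
    intro h1
    obtain ⟨b, hb⟩ := D.nontriv
    obtain ⟨k, hk⟩ := D.surj (b : G)
    have hkP : k ∈ (P : Subgroup G).comap π := by rw [Subgroup.mem_comap, hk]; exact b.2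
    have h2 : κ ⟨k, hkP⟩ = 1 := hlam (by
      rw [map_one]
      exact DFunLike.congr_fun h1 ⟨k, hkP⟩)
    have h3 : k⁻¹ * s * k * (s : K)⁻¹ = 1 := congrArg Subtype.val h2
    rw [mul_inv_eq_one, mul_assoc, inv_mul_eq_iff_eq_mul] at h3
    have h4 := (D.comm k (s : K) hkP s.2).1 h3.symm
    have hs1 : φ₁ ⟨π (s : K), s.2⟩ = 1 := hA ⟨s, hs⟩
    rw [hs1, toAdd_one, mul_zero, sub_zero, mul_eq_zero, toAdd_eq_zero, toAdd_eq_zero] at h4
    rcases h4 with h4 | h4
    · exact hb (by rw [← h4]; exact congrArg φ₁ (Subtype.ext hk.symm))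
    · exact hR ((mem_formKer φ₁ φ₂ s.2).2 ⟨hs1, h4⟩)

theorem IsCover.isGeneralized_theta (D : IsCover π φ₁ φ₂)
    (hT : ∀ x ∈ (P : Subgroup G), π T * x * (π T)⁻¹ = x⁻¹) {lam : π.ker →* ℂ}
    (hlam : Function.Injective lam) :
    IsGeneralizedCharacter K (fun k => thetaFun φ₁ φ₂ T lam (pPartElt p k)) :=
  isGeneralized_comp_pPart (D.isClassFunction_thetaFun hT lam)
    (D.isPGroup_comap.toSylow D.not_dvd_index) (D.isGeneralized_thetaFun_sylow hT hlam)

/-- Twisting a projective generalized character of the quotient by the central character. -/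
theorem IsCover.isGeneralized_twist (D : IsCover π φ₁ φ₂) (lam : π.ker →* ℂ) {φ : G → ℂ}
    (hφ : IsGeneralizedCharacter G φ) (hsing : ∀ g, p ∣ orderOf g → φ g = 0) :
    IsGeneralizedCharacter K (fun k => kerFun lam (pPartElt p k) * φ (π k)) := by
  classical
  have hcl : ∀ k : K, ∀ c : K, kerFun lam (pPartElt p (c * k * c⁻¹)) * φ (π (c * k * c⁻¹)) =
      kerFun lam (pPartElt p k) * φ (π k) := by
    intro k c
    rw [pPartElt_conj, map_mul, map_mul, map_inv, isClassFunction_of_isGeneralized hφ]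
    by_cases hz : pPartElt p k ∈ π.ker
    · rw [D.ker_comm hz c, mul_inv_cancel_right]
    · rw [kerFun_of_not_mem lam hz, kerFun_of_not_mem lam fun hm => hz (by
        have := (MonoidHom.normal_ker π).conj_mem _ hm c⁻¹
        rwa [show c⁻¹ * (c * pPartElt p k * c⁻¹) * c⁻¹⁻¹ = pPartElt p k by group] at this)]
  refine CharsMore.isGeneralized_of_elementary (fun k c => hcl k c) fun E r hr hE => ?_
  haveI : Group.IsNilpotent E := isNilpotent_of_isElementary hr hE
  haveI := Fintype.ofFinite E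
  refine isGeneralized_iff_inner.2 ⟨fun e c => hcl _ _, fun ψ => ?_⟩
  let Z : Subgroup E := π.ker.subgroupOf E
  haveI := Fintype.ofFinite Z
  let Q : Finset E := univ.filter fun y : E => ¬ p ∣ orderOf (y : K)
  have hzc : ∀ z : Z, (z : E) ∈ Subgroup.center E := fun z =>
    Subgroup.mem_center_iff.2 fun e => Subtype.ext (D.ker_comm z.2 e)
  have hsing' : ∀ e : E, pPartElt p (e : K) ∉ π.ker → φ (π (e : K)) = 0 := fun e he =>
    hsing _ (by
      by_contra hd
      exact he (MonoidHom.mem_ker.2 (by rw [← pPartElt_map, pPartElt_of_regular hd])))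
  have hparts : ∀ (z : Z) (y : E), ¬ p ∣ orderOf (y : K) →
      pPartElt p (((z : E) * y : E) : K) = (z : E) ∧
        pPrimePart p (((z : E) * y : E) : K) = (y : K) := fun z y hy => by
    have hc : Commute ((z : E) : K) (y : K) := (D.ker_comm z.2 (y : K)).symm
    refine ⟨pPartElt_mul hc ⟨1, by rw [pow_one]; exact D.pow_ker z.2⟩ hy, ?_⟩
    obtain ⟨i, -, hi⟩ := (Nat.dvd_prime_pow (Fact.out : p.Prime)).1
      (orderOf_dvd_of_pow_eq_one (show ((z : E) : K) ^ p ^ 1 = 1 by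
        rw [pow_one]; exact D.pow_ker z.2))
    exact pPrimePart_mul hc ⟨i, hi⟩ hy
  have hsplit : ∀ F : E → ℂ, (∀ e : E, pPartElt p (e : K) ∉ π.ker → F e = 0) →
      ∑ e, F e = ∑ z : Z, ∑ y ∈ Q, F ((z : E) * y) := by
    intro F hF
    rw [← Finset.sum_product', ← Finset.sum_filter_of_ne (p := fun e : E => pPartElt p (e : K) ∈ π.ker)
      fun e _ he => not_not.1 fun hm => he (hF e hm)]
    refine (Finset.sum_bij (fun zy _ => ((zy.1 : E) * zy.2 : E)) (fun zy hzy => ?_)
      (fun a ha b hb hab => ?_) (fun e he => ?_) fun _ _ => rfl).symm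
    · refine mem_filter.2 ⟨mem_univ _, ?_⟩
      rw [(hparts zy.1 zy.2 (mem_filter.1 (mem_product.1 hzy).2).2).1]
      exact zy.1.2
    · obtain ⟨a1, a2⟩ := hparts a.1 a.2 (mem_filter.1 (mem_product.1 ha).2).2
      obtain ⟨b1, b2⟩ := hparts b.1 b.2 (mem_filter.1 (mem_product.1 hb).2).2
      exact Prod.ext (Subtype.ext (Subtype.ext (by rw [← a1, ← b1, hab])))
        (Subtype.ext (by rw [← a2, ← b2, hab]))
    · refine ⟨(⟨⟨_, mul_mem e.2 (inv_mem (pPrimePart_mem E e.2))⟩, (mem_filter.1 he).2⟩,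
        ⟨_, pPrimePart_mem E e.2⟩), mem_product.2 ⟨mem_univ _, mem_filter.2 ⟨mem_univ _,
          not_dvd_orderOf_pPrimePart _⟩⟩, Subtype.ext ?_⟩
      exact (pPartElt_spec (p := p) (e : K)).2.2
  have hcs : ∀ (z : Z) (y : E), (ψ : E → ℂ) ((z : E) * y) =
      centralScalar (ψ : E → ℂ) (z : E) * (ψ : E → ℂ) y := fun z y =>
    irr_central_mul ψ (hzc z) y
  let f : Z →* ℂ :=
    { toFun := fun z => kerFun lam ((z : E) : K) * conj (centralScalar (ψ : E → ℂ) (z : E))
      map_one' := by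
        rw [OneMemClass.coe_one, centralScalar, div_self (irr_degree_ne_zero ψ.2), map_one,
          mul_one, OneMemClass.coe_one, kerFun_one]
      map_mul' := fun z w => by
        have e1 : centralScalar (ψ : E → ℂ) ((z * w : Z) : E) =
            centralScalar (ψ : E → ℂ) (z : E) * centralScalar (ψ : E → ℂ) (w : E) := by
          rw [centralScalar, Subgroup.coe_mul, hcs, mul_div_assoc]
          rfl
        have e2 : kerFun lam (((z * w : Z) : E) : K) =
            kerFun lam ((z : E) : K) * kerFun lam ((w : E) : K) := by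
          rw [kerFun_of_mem lam (Subgroup.mem_subgroupOf.1 (z * w).2),
            kerFun_of_mem lam (Subgroup.mem_subgroupOf.1 z.2), kerFun_of_mem lam (Subgroup.mem_subgroupOf.1 w.2), ← map_mul]
          rfl
        rw [e1, e2, map_mul]
        ring }
  obtain ⟨Sy, hSy⟩ : ∃ Sy, Sy = ∑ y ∈ Q, φ (π (y : K)) * conj ((ψ : E → ℂ) y) := ⟨_, rfl⟩
  have hproj : ∀ (z : Z) (y : E), π (((z : E) * y : E) : K) = π (y : K) := fun z y => by
    rw [Subgroup.coe_mul, map_mul, MonoidHom.mem_ker.1 (Subgroup.mem_subgroupOf.1 z.2), one_mul]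
  have h1 : ∑ e : E, kerFun lam (pPartElt p (e : K)) * φ (π (e : K)) * conj ((ψ : E → ℂ) e) =
      (∑ z : Z, f z) * Sy := by
    rw [hsplit _ fun e he => by rw [hsing' e he, mul_zero, zero_mul], Finset.sum_mul, hSy]
    refine Finset.sum_congr rfl fun z _ => ?_
    rw [Finset.mul_sum]
    refine Finset.sum_congr rfl fun y hy => ?_
    rw [(hparts z y (mem_filter.1 hy).2).1, hproj, hcs, map_mul]
    show _ = kerFun lam _ * conj (centralScalar (ψ : E → ℂ) (z : E)) * _
    ring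
  have h2 : ∑ e : E, φ (π (e : K)) * conj ((ψ : E → ℂ) (regPartHom p E e)) =
      (Fintype.card Z : ℂ) * Sy := by
    rw [hsplit _ fun e he => by rw [hsing' e he, zero_mul], ← Finset.card_univ, ← nsmul_eq_mul,
      ← Finset.sum_const, hSy]
    refine Finset.sum_congr rfl fun z _ => Finset.sum_congr rfl fun y hy => ?_
    rw [hproj, show regPartHom p E ((z : E) * y) = y from
      Subtype.ext (hparts z y (mem_filter.1 hy).2).2]
  obtain ⟨m, hm⟩ : ∃ m : ℤ, classInner (fun e : E => φ (π (e : K)))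
      (fun e => (ψ : E → ℂ) (regPartHom p E e)) = m := by
    have hψ := isCharacter_comp (regPartHom p E) (isCharacter_of_irr ψ.2)
    obtain ⟨a, b, ha, hb, hab⟩ := hφ
    obtain ⟨na, hna⟩ := inner_char_nat (isCharacter_restrict E (isCharacter_comp π ha)) hψ
    obtain ⟨nb, hnb⟩ := inner_char_nat (isCharacter_restrict E (isCharacter_comp π hb)) hψ
    refine ⟨(na : ℤ) - nb, ?_⟩
    rw [show (fun e : E => φ (π (e : K))) = (fun e : E => a (π (e : K))) - fun e : E => b (π (e : K))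
      from funext fun e => congrFun hab _, Chars.inner_sub_left, hna, hnb]
    push_cast
    rfl
  refine ⟨if f = 1 then m else 0, ?_⟩
  rw [inner_def, h1, sum_hom_units]
  split_ifs
  · rw [← hm, inner_def, h2]
  · simp

end CfsgLib.SmithTyrer
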