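import Cfsg.Agent.Lib.SmithTyrer.Basic
import Cfsg.Agent.Lib.CharsMore.ExtraTransfer.Cocycle

/-!
# The central extension attached to two linear forms on an abelian Sylow subgroup

The cup product of two transfer cocycles, summed over the cosets of the Sylow subgroup, is a
`2`-cocycle with values in the prime field. The commutator of two lifts of elements of the Sylow
subgroup is the index times the determinant of their images.
-/

set_option autoImplicit false
set_option linter.style.haveILetI false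
set_option linter.unusedSectionVars false

namespace CfsgLib.SmithTyrer

open Cfsg MulAction Finset CfsgLib.CharsMore.ExtraTransfer

universe u

/-- A normalized cocycle with values in a trivial module. -/
structure Cocycle (G : Type u) [Group G] (A : Type) [AddCommGroup A] where
  /-- the cocycle -/
  c : G → G → A
  cond : ∀ g h k, c g h + c (g * h) k = c h k + c g (h * k)
  one_left : ∀ g, c 1 g = 0
  one_right : ∀ g, c g 1 = 0

/-- The central extension given by a cocycle. -/
@[ext]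
structure Ext {G : Type u} [Group G] {A : Type} [AddCommGroup A] (C : Cocycle G A) where
  /-- the image in the group -/
  base : G
  /-- the central coordinate -/
  ctr : A

namespace Ext

variable {G : Type u} [Group G] {A : Type} [AddCommGroup A] {C : Cocycle G A}

instance : Mul (Ext C) := ⟨fun a b => ⟨a.base * b.base, a.ctr + b.ctr + C.c a.base b.base⟩⟩
instance : One (Ext C) := ⟨⟨1, 0⟩⟩
instance : Inv (Ext C) := ⟨fun a => ⟨a.base⁻¹, -a.ctr - C.c a.base⁻¹ a.base⟩⟩

@[simp] theorem mul_base (a b : Ext C) : (a * b).base = a.base * b.base := rfl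
@[simp] theorem mul_ctr (a b : Ext C) : (a * b).ctr = a.ctr + b.ctr + C.c a.base b.base := rfl
@[simp] theorem one_base : (1 : Ext C).base = 1 := rfl
@[simp] theorem one_ctr : (1 : Ext C).ctr = 0 := rfl
@[simp] theorem inv_base (a : Ext C) : a⁻¹.base = a.base⁻¹ := rfl
@[simp] theorem inv_ctr (a : Ext C) : a⁻¹.ctr = -a.ctr - C.c a.base⁻¹ a.base := rfl

instance : Group (Ext C) :=
  Group.ofLeftAxioms
    (fun a b d => Ext.ext (mul_assoc _ _ _) (by
      simp only [mul_ctr, mul_base]
      have := C.cond a.base b.base d.base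
      calc a.ctr + b.ctr + C.c a.base b.base + d.ctr + C.c (a.base * b.base) d.base
          = a.ctr + b.ctr + d.ctr + (C.c a.base b.base + C.c (a.base * b.base) d.base) := by abel
        _ = _ := by rw [this]; abel))
    (fun a => Ext.ext (one_mul _) (by simp [C.one_left]))
    (fun a => Ext.ext (inv_mul_cancel _) (by simp only [mul_ctr, inv_ctr, inv_base, one_ctr]; abel))

/-- The projection. -/
def proj : Ext C →* G where
  toFun := Ext.base
  map_one' := rfl
  map_mul' _ _ := rfl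

theorem proj_surjective : Function.Surjective (proj (C := C)) := fun g => ⟨⟨g, 0⟩, rfl⟩

/-- The extension is in bijection with the product. -/
def prodEquiv : Ext C ≃ G × A where
  toFun a := (a.base, a.ctr)
  invFun a := ⟨a.1, a.2⟩
  left_inv _ := rfl
  right_inv _ := rfl

instance [Finite G] [Finite A] : Finite (Ext C) := Finite.of_equiv _ prodEquiv.symm

theorem ker_le_center : (proj (C := C)).ker ≤ Subgroup.center (Ext C) := by
  intro z hz
  have hz' : z.base = 1 := hz
  refine Subgroup.mem_center_iff.2 fun a => Ext.ext ?_ ?_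
  · simp [hz']
  · simp [hz', C.one_left, C.one_right, add_comm]

theorem card_ker : Nat.card (proj (C := C)).ker = Nat.card A :=
  Nat.card_congr
    { toFun := fun z => z.1.ctr
      invFun := fun a => ⟨⟨1, a⟩, rfl⟩
      left_inv := fun z => Subtype.ext (Ext.ext (Eq.symm z.2) rfl)
      right_inv := fun _ => rfl }

theorem commute_iff {a b : Ext C} (h : a.base * b.base = b.base * a.base) :
    a * b = b * a ↔ C.c a.base b.base - C.c b.base a.base = 0 := by
  rw [Ext.ext_iff, mul_base, mul_base, mul_ctr, mul_ctr, sub_eq_zero, add_comm b.ctr a.ctr,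
    add_right_inj]
  exact and_iff_right h

end Ext

section Cup

variable {G : Type u} [Group G] {p : ℕ} {H : Subgroup G}

/-- The additive transfer cocycle. -/
noncomputable def acoc (φ : H →* Multiplicative (ZMod p)) (g : G) (q : G ⧸ H) : ZMod p :=
  Multiplicative.toAdd (coc φ g q)

theorem acoc_mul (φ : H →* Multiplicative (ZMod p)) (g h : G) (q : G ⧸ H) :
    acoc φ (g * h) q = acoc φ g (h • q) + acoc φ h q := by
  simp [acoc, coc_mul]

theorem acoc_one (φ : H →* Multiplicative (ZMod p)) (q : G ⧸ H) : acoc φ 1 q = 0 := by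
  simp [acoc, coc_one]

/-- The summed cup product of two transfer cocycles. -/
noncomputable def cup [Fintype (G ⧸ H)] (φ₁ φ₂ : H →* Multiplicative (ZMod p)) :
    Cocycle G (ZMod p) where
  c g h := ∑ q : G ⧸ H, acoc φ₁ g (h • q) * acoc φ₂ h q
  cond g h k := by
    have e : ∀ F : G ⧸ H → ZMod p, ∑ q, F (k • q) = ∑ q, F q := fun F =>
      Equiv.sum_comp (MulAction.toPerm k) F
    rw [← e fun q => acoc φ₁ g (h • q) * acoc φ₂ h q, ← sum_add_distrib, ← sum_add_distrib]
    refine sum_congr rfl fun q _ => ?_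
    rw [acoc_mul φ₁ g h, acoc_mul φ₂ h k, mul_smul]
    ring
  one_left g := sum_eq_zero fun q _ => by rw [acoc_one, zero_mul]
  one_right g := sum_eq_zero fun q _ => by rw [acoc_one, mul_zero]

end Cup

variable {G : Type u} [Group G] [Finite G] {p : ℕ} [Fact p.Prime] {P : Sylow p G}

/-- The action of a stabilizer on a coset is by a sign. -/
theorem InvHyp.exists_sign (hp : p ≠ 2) (h : InvHyp P) (q : G ⧸ (P : Subgroup G)) :
    ∃ ε : ZMod p, ε * ε = 1 ∧ ∀ (φ : (P : Subgroup G) →* Multiplicative (ZMod p))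
      (x : G) (hx : x ∈ (P : Subgroup G)), x • q = q →
      acoc φ x q = ε * Multiplicative.toAdd (φ ⟨x, hx⟩) := by
  obtain ⟨k, rfl⟩ := QuotientGroup.mk_surjective q
  have hfix : ∀ x : G, x • (k : G ⧸ (P : Subgroup G)) = k → k⁻¹ * x * k ∈ (P : Subgroup G) := by
    intro x hx
    rw [MulAction.Quotient.smul_coe, smul_eq_mul, eq_comm, QuotientGroup.eq, ← mul_assoc] at hx
    exact hx
  have hor : ∀ x : G, x ∈ (P : Subgroup G) → k⁻¹ * x * k ∈ (P : Subgroup G) →
      k⁻¹ * x * k = x ∨ k⁻¹ * x * k = x⁻¹ := fun x hx hk => by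
    have := h.fusion (g := k⁻¹) hx (by rwa [inv_inv])
    rwa [inv_inv] at this
  have hall : (∀ x : G, x ∈ (P : Subgroup G) → k⁻¹ * x * k ∈ (P : Subgroup G) →
      k⁻¹ * x * k = x) ∨ ∀ x : G, x ∈ (P : Subgroup G) → k⁻¹ * x * k ∈ (P : Subgroup G) →
      k⁻¹ * x * k = x⁻¹ := by
    refine or_iff_not_imp_left.2 fun hn b hb hkb => ?_
    push Not at hn
    obtain ⟨a, ha, hka, hne⟩ := hn
    have ea := (hor a ha hka).resolve_left hne
    rcases hor b hb hkb with eb | eb
    swap
    · exact eb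
    have eab : k⁻¹ * (a * b) * k = a⁻¹ * b := by
      rw [show k⁻¹ * (a * b) * k = k⁻¹ * a * k * (k⁻¹ * b * k) by group, ea, eb]
    rcases hor (a * b) (mul_mem ha hb) (eab ▸ mul_mem (inv_mem ha) hb) with e | e
    · rw [eab, mul_left_inj] at e
      exact absurd (eq_one_of_inv_eq hp P ha e.symm) fun h1 => hne (by simp [h1])
    · rw [eab, h.comm a ha b hb, mul_inv_rev, mul_right_inj] at e
      rw [eb]
      exact e
  rcases hall with hid | hinv
  · refine ⟨1, one_mul 1, fun φ x hx hq => ?_⟩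
    rw [one_mul, acoc, coc_of_fix φ k x (hfix x hq)]
    exact congrArg (fun y => Multiplicative.toAdd (φ y)) (Subtype.ext (hid x hx (hfix x hq)))
  · refine ⟨-1, by ring, fun φ x hx hq => ?_⟩
    rw [neg_one_mul, acoc, coc_of_fix φ k x (hfix x hq), ← toAdd_inv, ← map_inv]
    exact congrArg (fun y => Multiplicative.toAdd (φ y)) (Subtype.ext (hinv x hx (hfix x hq)))

/-- On the Sylow subgroup the transfer cocycles are signed forms up to coboundaries. -/
theorem InvHyp.exists_potential (hp : p ≠ 2) (h : InvHyp P) :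
    ∃ ε : G ⧸ (P : Subgroup G) → ZMod p, (∀ q, ε q * ε q = 1) ∧
      (∀ x ∈ (P : Subgroup G), ∀ q, ε (x • q) = ε q) ∧
      ∀ φ : (P : Subgroup G) →* Multiplicative (ZMod p), ∃ H : G ⧸ (P : Subgroup G) → ZMod p,
        ∀ (x : G) (hx : x ∈ (P : Subgroup G)) (q : G ⧸ (P : Subgroup G)),
          acoc φ x q = ε q * Multiplicative.toAdd (φ ⟨x, hx⟩) + H (x • q) - H q := by
  classical
  choose e he1 he using h.exists_sign hp
  let rep : G ⧸ (P : Subgroup G) → G ⧸ (P : Subgroup G) := fun q =>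
    (Quotient.mk (orbitRel (P : Subgroup G) (G ⧸ (P : Subgroup G))) q).out
  have hrep : ∀ q, ∃ s : (P : Subgroup G), (s : G) • rep q = q := fun q => by
    have h1 : (orbitRel (P : Subgroup G) (G ⧸ (P : Subgroup G))).r q (rep q) :=
      (orbitRel (P : Subgroup G) _).symm (Quotient.mk_out q)
    rw [orbitRel_apply] at h1
    exact mem_orbit_iff.1 h1
  choose s hs using hrep
  have hrepeq : ∀ x ∈ (P : Subgroup G), ∀ q, rep (x • q) = rep q := fun x hx q =>
    congrArg Quotient.out (Quotient.sound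
      ((orbitRel_apply (G := (P : Subgroup G))).2 ⟨⟨x, hx⟩, rfl⟩))
  refine ⟨fun q => e (rep q), fun q => he1 _, fun x hx q => by simp only [hrepeq x hx q],
    fun φ => ⟨fun q => acoc φ (s q : G) (rep q) - e (rep q) * Multiplicative.toAdd (φ (s q)),
      fun x hx q => ?_⟩⟩
  obtain ⟨u, hu⟩ : ∃ u : (P : Subgroup G), u = (s (x • q))⁻¹ * (⟨x, hx⟩ * s q) := ⟨_, rfl⟩
  have hufix : (u : G) • rep q = rep q := by
    rw [hu]
    push_cast
    rw [mul_smul, mul_smul, hs, inv_smul_eq_iff]
    conv_rhs => rw [← hrepeq x hx q]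
    rw [hs]
  have e2 : (s (x • q) : G) * (u : G) = x * (s q : G) := by rw [hu]; push_cast; group
  have e3 : Multiplicative.toAdd (φ (s (x • q))) + Multiplicative.toAdd (φ u) =
      Multiplicative.toAdd (φ ⟨x, hx⟩) + Multiplicative.toAdd (φ (s q)) := by
    rw [← toAdd_mul, ← toAdd_mul, ← map_mul, ← map_mul]
    exact congrArg (fun y => Multiplicative.toAdd (φ y)) (Subtype.ext e2)
  have h1 := acoc_mul φ x (s q : G) (rep q)
  rw [hs, ← e2, acoc_mul, hufix, he _ φ u u.2 hufix] at h1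
  simp only [hrepeq x hx q]
  linear_combination -h1 + e (rep q) * e3

open scoped Classical in
/-- **The cover.** -/
theorem InvHyp.exists_cover (hp : p ≠ 2) (h : InvHyp P)
    (φ₁ φ₂ : (P : Subgroup G) →* Multiplicative (ZMod p)) :
    ∃ (K : Type u) (_ : Group K) (_ : Finite K) (π : K →* G), Function.Surjective π ∧
      π.ker ≤ Subgroup.center K ∧ Nat.card π.ker = p ∧
      ∀ (a b : K) (ha : π a ∈ (P : Subgroup G)) (hb : π b ∈ (P : Subgroup G)),
        a * b = b * a ↔
          Multiplicative.toAdd (φ₁ ⟨π a, ha⟩) * Multiplicative.toAdd (φ₂ ⟨π b, hb⟩) -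
            Multiplicative.toAdd (φ₂ ⟨π a, ha⟩) * Multiplicative.toAdd (φ₁ ⟨π b, hb⟩) = 0 := by
  haveI : Fintype (G ⧸ (P : Subgroup G)) := Fintype.ofFinite _
  refine ⟨Ext (cup φ₁ φ₂), inferInstance, inferInstance, Ext.proj, Ext.proj_surjective,
    Ext.ker_le_center, Ext.card_ker.trans (Nat.card_zmod p), fun a b ha hb => ?_⟩
  rw [Ext.commute_iff (h.comm _ ha _ hb)]
  obtain ⟨x, hx⟩ : ∃ x, x = a.base := ⟨_, rfl⟩
  obtain ⟨y, hy⟩ : ∃ y, y = b.base := ⟨_, rfl⟩
  change (cup φ₁ φ₂).c a.base b.base - (cup φ₁ φ₂).c b.base a.base = 0 ↔ _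
  have hxP : a.base ∈ (P : Subgroup G) := ha
  have hyP : b.base ∈ (P : Subgroup G) := hb
  obtain ⟨ε, hε1, hεinv, hpot⟩ := h.exists_potential hp
  obtain ⟨H₁, hH₁⟩ := hpot φ₁
  obtain ⟨H₂, hH₂⟩ := hpot φ₂
  have hre : ∀ (z : G) (F : G ⧸ (P : Subgroup G) → ZMod p), ∑ q, F (z • q) = ∑ q, F q :=
    fun z F => Equiv.sum_comp (MulAction.toPerm z) F
  have key : ∀ (u v : G) (hu : u ∈ (P : Subgroup G)) (hv : v ∈ (P : Subgroup G)),
      (cup φ₁ φ₂).c u v = (Fintype.card (G ⧸ (P : Subgroup G)) : ZMod p) *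
          (Multiplicative.toAdd (φ₁ ⟨u, hu⟩) * Multiplicative.toAdd (φ₂ ⟨v, hv⟩)) +
        ((∑ q, H₁ (u • q) * H₂ q) - (∑ q, H₁ ((u * v) • q) * H₂ q) +
          (∑ q, H₁ (v • q) * H₂ q) - ∑ q, H₁ q * H₂ q) := by
    intro u v hu hv
    obtain ⟨a₁, hA⟩ : ∃ a₁, a₁ = Multiplicative.toAdd (φ₁ ⟨u, hu⟩) := ⟨_, rfl⟩
    obtain ⟨b₂, hB⟩ : ∃ b₂, b₂ = Multiplicative.toAdd (φ₂ ⟨v, hv⟩) := ⟨_, rfl⟩
    show ∑ q, acoc φ₁ u (v • q) * acoc φ₂ v q = _
    simp only [hH₁ u hu, hH₂ v hv, ← hA, ← hB, hεinv v hv, ← mul_smul]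
    have e0 : ∀ q, (ε q * a₁ + H₁ ((u * v) • q) - H₁ (v • q)) *
        (ε q * b₂ + H₂ (v • q) - H₂ q) =
        a₁ * b₂ + a₁ * (ε (v • q) * H₂ (v • q) - ε q * H₂ q) +
          b₂ * (ε ((u * v) • q) * H₁ ((u * v) • q) - ε (v • q) * H₁ (v • q)) +
          (H₁ (u • v • q) * H₂ (v • q) - H₁ ((u * v) • q) * H₂ q -
            H₁ (v • q) * H₂ (v • q) + H₁ (v • q) * H₂ q) := by
      intro q
      rw [hεinv v hv, hεinv (u * v) (mul_mem hu hv), ← mul_smul]
      linear_combination (a₁ * b₂) * hε1 q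
    simp only [e0, sum_add_distrib, sum_sub_distrib, ← mul_sum]
    rw [hre v fun q => ε q * H₂ q, hre (u * v) fun q => ε q * H₁ q,
      hre v fun q => ε q * H₁ q, hre v fun q => H₁ (u • q) * H₂ q,
      hre v fun q => H₁ q * H₂ q, sum_const, card_univ, nsmul_eq_mul]
    ring
  rw [key _ _ hxP hyP, key _ _ hyP hxP, h.comm _ hyP _ hxP]
  obtain ⟨N, hN⟩ : ∃ N, N = (Fintype.card (G ⧸ (P : Subgroup G)) : ZMod p) := ⟨_, rfl⟩
  have hN0 : N ≠ 0 := by
    rw [hN, ← Nat.card_eq_fintype_card, Ne, ZMod.natCast_eq_zero_iff]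
    exact P.not_dvd_index
  rw [← hN]
  constructor
  · intro e
    refine (mul_eq_zero.1 (?_ : N * _ = 0)).resolve_left hN0
    exact Eq.trans (by ring!) e
  · intro e
    linear_combination (norm := ring!) N * e

end CfsgLib.SmithTyrer
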