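import Cfsg.Agent.Lib.SmithTyrer.Basic
import Cfsg.Agent.Lib.Blocks.FreePrincipal
import Cfsg.Agent.Lib.CharApps.AbelianSylow
import Cfsg.Agent.Lib.CharApps.Basic

/-!
# The principal block for an inverting automizer of order two
-/

set_option autoImplicit false
set_option linter.style.haveILetI false
set_option linter.unusedSectionVars false

namespace CfsgLib.SmithTyrer

open Cfsg CfsgLib.Chars CfsgLib.BlockOrth CfsgLib.Blocks Finset
open scoped ComplexConjugate

universe u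

variable {G : Type u} [Group G] [Fintype G] {p : ℕ} [Fact p.Prime] {P : Sylow p G}

theorem InvHyp.nine_le_card (hp : p ≠ 2) (h : InvHyp P) : 9 ≤ Nat.card (P : Subgroup G) := by
  obtain ⟨k, hk⟩ := IsPGroup.iff_card.1 P.2
  have hp3 : 3 ≤ p := by
    have := (Fact.out : p.Prime).two_le
    omega
  rcases k with _ | _ | k
  · rw [pow_zero] at hk
    haveI : Subsingleton (P : Subgroup G) := (Nat.card_eq_one_iff_unique.1 hk).1
    exact absurd isCyclic_of_subsingleton h.noncyclic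
  · rw [pow_one] at hk
    exact absurd (isCyclic_of_prime_card hk) h.noncyclic
  · rw [hk]
    calc (9 : ℕ) = 3 ^ 2 := by norm_num
      _ ≤ p ^ 2 := Nat.pow_le_pow_left hp3 2
      _ ≤ p ^ (k + 1 + 1) := Nat.pow_le_pow_right (by omega) (by omega)

/-- The sum of a nonprincipal irreducible character. -/
theorem sum_irr_ne_principal {H : Type u} [Group H] [Fintype H] {χ : IrrCharacter H}
    (hχ : χ ≠ principal H) : ∑ g : H, (χ : H → ℂ) g = 0 := by
  have h := inner_irr_ne hχ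
  rw [inner_def] at h
  simp only [principal_apply, map_one, mul_one] at h
  exact (mul_eq_zero.1 h).resolve_left (inv_ne_zero (card_ne_zero H))

/-- The linear form attached to two homomorphisms to the prime field. -/
def form (φ₁ φ₂ : (P : Subgroup G) →* Multiplicative (ZMod p)) (i j : ZMod p)
    (x : (P : Subgroup G)) : ZMod p :=
  i * Multiplicative.toAdd (φ₁ x) + j * Multiplicative.toAdd (φ₂ x)

theorem form_mul (φ₁ φ₂ : (P : Subgroup G) →* Multiplicative (ZMod p)) (i j : ZMod p)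
    (x y : (P : Subgroup G)) : form φ₁ φ₂ i j (x * y) = form φ₁ φ₂ i j x + form φ₁ φ₂ i j y := by
  simp only [form, map_mul, toAdd_mul]; ring

theorem form_one (φ₁ φ₂ : (P : Subgroup G) →* Multiplicative (ZMod p)) (i j : ZMod p) :
    form φ₁ φ₂ i j 1 = 0 := by
  simp only [form, map_one, toAdd_one]; ring

theorem form_inv (φ₁ φ₂ : (P : Subgroup G) →* Multiplicative (ZMod p)) (i j : ZMod p)
    (x : (P : Subgroup G)) : form φ₁ φ₂ i j x⁻¹ = -form φ₁ φ₂ i j x := by
  simp only [form, map_inv, toAdd_inv]; ring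

/-- The linear character attached to a pair of scalars. -/
noncomputable def linChar (φ₁ φ₂ : (P : Subgroup G) →* Multiplicative (ZMod p)) (i j : ZMod p) :
    IrrCharacter (P : Subgroup G) :=
  ⟨fun x => ZMod.stdAddChar (form φ₁ φ₂ i j x), by
    exact isIrrCharacter_linear (MonoidHom.toHomUnits
      ({ toFun := fun x => ZMod.stdAddChar (form φ₁ φ₂ i j x)
         map_one' := by rw [form_one, AddChar.map_zero_eq_one]
         map_mul' := fun x y => by rw [form_mul, AddChar.map_add_eq_mul] } :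
        (P : Subgroup G) →* ℂ))⟩

theorem linChar_apply (φ₁ φ₂ : (P : Subgroup G) →* Multiplicative (ZMod p)) (i j : ZMod p)
    (x : (P : Subgroup G)) : (linChar φ₁ φ₂ i j : ↥(P : Subgroup G) → ℂ) x =
      ZMod.stdAddChar (form φ₁ φ₂ i j x) := rfl

theorem sum_stdAddChar (u : ZMod p) :
    ∑ i : ZMod p, ZMod.stdAddChar (i * u) = if u = 0 then (p : ℂ) else 0 := by
  rw [AddChar.sum_mulShift u (ZMod.isPrimitive_stdAddChar p)]
  split_ifs <;> simp

theorem sum_linChar (a b : ZMod p) :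
    ∑ ij : ZMod p × ZMod p, ZMod.stdAddChar (ij.1 * a + ij.2 * b) =
      if a = 0 ∧ b = 0 then (p : ℂ) ^ 2 else 0 := by
  simp only [AddChar.map_add_eq_mul, Fintype.sum_prod_type, ← Finset.mul_sum, ← Finset.sum_mul,
    sum_stdAddChar]
  split_ifs <;> simp_all [sq]

set_option maxHeartbeats 800000 in
open scoped Classical in
/-- The nontrivial linear constituent of the principal block, and the distribution of the
`p`-parts over the quotient by an elementary abelian factor of order `p ^ 2`. -/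
theorem principal_data (hp : p ≠ 2) (h : InvHyp P) :
    ∃ (E : IrrCharacter G) (δ : ℤ), δ * δ = 1 ∧ E ≠ principal G ∧
      (∀ g : G, p ∣ orderOf g → (δ : ℂ) * (E : G → ℂ) g = 1) ∧
      ∀ φ₁ φ₂ : (P : Subgroup G) →* Multiplicative (ZMod p),
        (∀ i j : ZMod p, (∀ x, form φ₁ φ₂ i j x = 0) → i = 0 ∧ j = 0) →
        ∀ x : G → (P : Subgroup G), (∀ g, ∃ c : G, c * pPartElt p g * c⁻¹ = (x g : G)) →
          2 * p ^ 2 * (univ.filter fun g => φ₁ (x g) = 1 ∧ φ₂ (x g) = 1).card =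
            (p ^ 2 + 1) * Nat.card G := by
  obtain ⟨M, hM⟩ := CharApps.exists_pModular p
  haveI : M.IsPrime := hM.2.1.isPrime
  haveI := irrFintype G
  haveI : Fintype (P : Subgroup G) := Fintype.ofFinite _
  haveI := irrFintype (P : Subgroup G)
  haveI : Fintype {χ : IrrCharacter G // χ ∈ principalBlock M G} := Fintype.ofFinite _
  have hfree := h.free hp
  have hab := h.comm
  have hA : ∀ a b : (P : Subgroup G), a * b = b * a := fun a b =>
    Subtype.ext (hab _ a.2 _ b.2)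
  have hq := h.nine_le_card hp
  obtain ⟨E₀, hE₀⟩ : ∃ E₀ : Subgroup (MulAut (P : Subgroup G)),
      E₀ = (P : Subgroup G).normalizerMonoidHom.range := ⟨_, rfl⟩
  obtain ⟨t, ht⟩ := h.exists_inv
  have htN : t ∈ Subgroup.normalizer ((P : Subgroup G) : Set G) :=
    Subgroup.mem_normalizer_fintype fun x hx => by
      rw [ht x hx]; exact inv_mem hx
  have hσmem : (P : Subgroup G).normalizerMonoidHom ⟨t, htN⟩ ∈ E₀ := hE₀ ▸ ⟨_, rfl⟩
  obtain ⟨σ₀, hσ₀⟩ : ∃ σ₀ : E₀, ∀ u, (σ₀ : MulAut (P : Subgroup G)) u = u⁻¹ :=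
    ⟨⟨_, hσmem⟩, fun u => Subtype.ext (ht u u.2)⟩
  have hu₀ : ∃ u : (P : Subgroup G), u ≠ 1 := by
    haveI := Finite.one_lt_card_iff_nontrivial.1 (show 1 < Nat.card (P : Subgroup G) by omega)
    exact exists_ne 1
  have hEtwo : ∀ σ : E₀, σ = 1 ∨ σ = σ₀ := by
    rintro ⟨σ, hσ⟩
    obtain ⟨⟨n, hn⟩, rfl⟩ := MonoidHom.mem_range.1 (hE₀ ▸ hσ)
    rcases h.normalizer n hn with hc | hi
    · refine Or.inl (Subtype.ext (MulEquiv.ext fun u => Subtype.ext ?_))
      show n * (u : G) * n⁻¹ = u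
      rw [← Subgroup.mem_centralizer_iff.1 hc u u.2, mul_inv_cancel_right]
    · refine Or.inr (Subtype.ext (MulEquiv.ext fun u => ?_))
      rw [hσ₀]
      exact Subtype.ext (hi u u.2)
  have hσ1 : σ₀ ≠ 1 := fun he => by
    obtain ⟨u, hu⟩ := hu₀
    have := hσ₀ u
    rw [he] at this
    exact hu (Subtype.ext (eq_one_of_inv_eq hp P u.2 (congrArg Subtype.val this)))
  have huniv : (univ : Finset E₀) = {1, σ₀} := by
    ext σ
    simpa using hEtwo σ
  have hEsum : ∀ (F : E₀ → ℂ) (s : Finset E₀), (∀ σ, σ ∈ s) → ∑ σ ∈ s, F σ = F 1 + F σ₀ := by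
    intro F s hs
    rw [show s = univ from Finset.eq_univ_iff_forall.2 hs, huniv, sum_pair hσ1.symm]
  have hEcard : Nat.card E₀ = 2 := by
    rw [Nat.card_eq_fintype_card, ← Finset.card_univ, huniv, card_pair hσ1.symm]
  have hfree' : ∀ σ ∈ E₀, ∀ u : (P : Subgroup G), u ≠ 1 → σ u = u → σ = 1 := by
    intro σ hσ u hu hfix
    rcases hEtwo ⟨σ, hσ⟩ with e | e
    · exact congrArg Subtype.val e
    · have h2 : σ u = u⁻¹ := by rw [show σ = (σ₀ : MulAut (P : Subgroup G)) from congrArg Subtype.val e]; exact hσ₀ u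
      exact absurd (Subtype.ext (eq_one_of_inv_eq hp P u.2
        (congrArg Subtype.val (hfix.symm.trans h2)))) hu
  let ι := {χ : IrrCharacter G // χ ∈ principalBlock M G}
  let ξ : ι → ↥(P : Subgroup G) → ℂ := fun i u => (i.1 : G → ℂ) u
  have hpord : ∀ u : (P : Subgroup G), ∃ k : ℕ, (u : G) ^ p ^ k = 1 := fun u => by
    obtain ⟨k, hk⟩ := P.2 u
    exact ⟨k, by simpa using congrArg Subtype.val hk⟩
  have hne1 : ∀ u : (P : Subgroup G), u ≠ 1 → (u : G) ≠ 1 := fun u hu e => hu (Subtype.ext e)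
  have hdegψ : ∀ g : G, ¬ p ∣ orderOf g → ∀ u : (P : Subgroup G), u ≠ 1 →
      ∑ i : ι, (i.1 : G → ℂ) g * ξ i u = 0 := fun g hg u hu =>
    principal_deg hM hg (hpord u) (hne1 u hu)
  obtain ⟨y, ε, r, a, hε, hy, hval, hoth, hcard, hnorm, hψ⟩ := free_coherence hA (by omega) E₀
    hfree' ξ
    (fun i => ⟨_, 0, isCharacter_restrict _ (isCharacter_of_irr i.1.2), isCharacter_zero,
      by simp [ξ]⟩)
    (fun u v hu hv => by
      subst hE₀
      convert principal_orth (M := M) hM P hab hfree hu hv)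
    (fun i => by
      obtain ⟨u, hu⟩ := hu₀
      exact ⟨u, hu, (principal_column hM P hab hfree u.2 (hne1 u hu)).2.1 _ i.2⟩)
    (fun i => charDegree (i.1 : G → ℂ)) (fun i => CharApps.deg_pos i.1)
    (fun u hu => by
      rw [← hdegψ 1 (by rw [orderOf_one]; exact (Fact.out : p.Prime).not_dvd_one) u hu]
      exact Finset.sum_congr rfl fun i _ => by rw [CharApps.deg_eq])
  have hval2 : ∀ l : IrrCharacter (P : Subgroup G), l ≠ principal _ → ∀ u : (P : Subgroup G),
      u ≠ 1 → ξ (y l) u = (r : ℂ) + (ε : ℂ) *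
        ((l : ↥(P : Subgroup G) → ℂ) u + (l : ↥(P : Subgroup G) → ℂ) u⁻¹) := by
    intro l hl u hu
    rw [hval l hl u hu]
    congr 2
    refine (hEsum (fun σ => (l : ↥(P : Subgroup G) → ℂ) ((σ : MulAut (P : Subgroup G)) u)) _
      fun σ => @Finset.mem_univ _ (_) σ).trans ?_
    rw [hσ₀, OneMemClass.coe_one, MulAut.one_apply]
  let i₀ : ι := ⟨principal G, principal_mem_principalBlock M⟩
  have hi₀ : ∀ l : IrrCharacter (P : Subgroup G), l ≠ principal _ → y l ≠ i₀ := by
    intro l hl he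
    have e1 : ∀ u ∈ univ.erase (1 : (P : Subgroup G)), (1 : ℂ) = (r : ℂ) + (ε : ℂ) *
        ((l : ↥(P : Subgroup G) → ℂ) u + (l : ↥(P : Subgroup G) → ℂ) u⁻¹) := fun u hu => by
      rw [← hval2 l hl u (mem_erase.1 hu).1, he]; rfl
    have e2 := Finset.sum_congr rfl e1
    have e3 := sum_irr_ne_principal hl
    have e4 : ∑ u : (P : Subgroup G), (l : ↥(P : Subgroup G) → ℂ) u⁻¹ = 0 :=
      (Equiv.sum_comp (Equiv.inv _) fun u => (l : ↥(P : Subgroup G) → ℂ) u).trans e3
    rw [← Finset.sum_erase_add _ _ (mem_univ (1 : (P : Subgroup G))), irr_one_of_comm hA l] at e3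
    rw [← Finset.sum_erase_add _ _ (mem_univ (1 : (P : Subgroup G))), inv_one,
      irr_one_of_comm hA l] at e4
    rw [Finset.sum_const, Finset.sum_add_distrib, Finset.sum_const, ← Finset.mul_sum,
      Finset.sum_add_distrib, eq_neg_of_add_eq_zero_left e3, eq_neg_of_add_eq_zero_left e4,
      Finset.card_erase_of_mem (mem_univ _), Finset.card_univ, ← Nat.card_eq_fintype_card] at e2
    obtain ⟨m, hm⟩ : ∃ m, Nat.card (P : Subgroup G) = m + 1 := ⟨_, (Nat.sub_add_cancel (by omega : 1 ≤ Nat.card (P : Subgroup G))).symm⟩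
    rw [hm, Nat.add_sub_cancel] at e2
    simp only [nsmul_eq_mul, mul_one] at e2
    have e5 : (m : ℤ) = m * r + ε * (-1 + -1) := by exact_mod_cast e2
    have e6 : (m : ℤ) ∣ 2 := ⟨ε * (r - 1), by
      rcases hε with rfl | rfl <;> linarith [e5]⟩
    have := Int.le_of_dvd (by norm_num) e6
    omega
  have hai₀ : a i₀ = 1 := by
    obtain ⟨u, hu⟩ := hu₀
    have h1 : ((a i₀ : ℤ) : ℂ) = 1 := ((hoth i₀ hi₀).2 u hu).symm
    exact_mod_cast h1
  obtain ⟨t', ht'⟩ : ∃ n : ℕ, n = Nat.card {i // ∃ l : IrrCharacter (P : Subgroup G),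
      l ≠ principal _ ∧ y l = i} := ⟨_, rfl⟩
  rw [← ht', hEcard] at hcard hnorm
  obtain ⟨S, hS⟩ : ∃ S, S = univ.filter (fun i : ι =>
      ∀ l : IrrCharacter (P : Subgroup G), l ≠ principal _ → y l ≠ i) := ⟨_, rfl⟩
  have hS' : ∀ i ∈ S, ∀ l : IrrCharacter (P : Subgroup G), l ≠ principal _ → y l ≠ i :=
    fun i hi => by rw [hS] at hi; exact (mem_filter.1 hi).2
  have hmem₀ : i₀ ∈ S := by rw [hS]; exact mem_filter.2 ⟨mem_univ _, hi₀⟩
  have hfil : ∀ inst : DecidablePred fun i : ι =>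
      ∀ l : IrrCharacter (P : Subgroup G), l ≠ principal _ → y l ≠ i,
      @Finset.filter ι (fun i => ∀ l : IrrCharacter (P : Subgroup G), l ≠ principal _ → y l ≠ i)
        inst univ = S := fun inst => by
    rw [hS]; ext i; simp
  have hnorm' : (∑ i ∈ S, a i * a i) + (t' : ℤ) * r * r - 2 * ε * r = 2 := by
    rw [hfil] at hnorm; exact_mod_cast hnorm
  rw [← Finset.add_sum_erase _ _ hmem₀, hai₀] at hnorm'
  have hnn : 0 ≤ ∑ i ∈ S.erase i₀, a i * a i := sum_nonneg fun i _ => mul_self_nonneg _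
  have ht4 : (4 : ℤ) ≤ t' := by exact_mod_cast (show 4 ≤ t' by omega)
  have hr : r = 0 := by
    rcases lt_trichotomy r 0 with hr | hr | hr
    · exfalso
      rcases hε with rfl | rfl <;>
        nlinarith [mul_le_mul_of_nonneg_right ht4 (mul_self_nonneg r)]
    · exact hr
    · exfalso
      rcases hε with rfl | rfl <;>
        nlinarith [mul_le_mul_of_nonneg_right ht4 (mul_self_nonneg r)]
  subst hr
  have hrest : ∑ i ∈ S.erase i₀, a i * a i = 1 := by linarith
  have hge : ∀ i ∈ S.erase i₀, 1 ≤ a i * a i := fun i hi =>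
    Int.add_one_le_iff.2 (mul_self_pos.2 (hoth i (hS' i (mem_of_mem_erase hi))).1)
  obtain ⟨iE, hiE⟩ : ∃ iE, S.erase i₀ = {iE} := by
    have h1 := Finset.sum_le_sum hge
    rw [hrest, Finset.sum_const, nsmul_eq_mul, mul_one] at h1
    refine Finset.card_eq_one.1 ?_
    have h0 : S.erase i₀ ≠ ∅ := fun h0 => by rw [h0, Finset.sum_empty] at hrest; exact zero_ne_one hrest
    have := Finset.card_pos.2 (Finset.nonempty_iff_ne_empty.2 h0)
    omega
  have hEmem : iE ∈ S.erase i₀ := hiE ▸ mem_singleton_self iE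
  have hδ : a iE * a iE = 1 := by rw [hiE, sum_singleton] at hrest; exact hrest
  have hcolumn : ∀ g : G, ∀ x : (P : Subgroup G), ∀ c : G, c * pPartElt p g * c⁻¹ = x → x ≠ 1 →
      ∀ i : ι, (i.1 : G → ℂ) g = ξ i x := by
    intro g x c hc hx i
    obtain ⟨hcomm, -, he⟩ := pPartElt_spec (p := p) g
    have h1 := (principal_column hM P hab hfree x.2 (hne1 x hx)).1 _ i.2
      (c * pPrimePart p g * c⁻¹) (by rw [← hc]; exact hcomm.map (MulAut.conj c).toMonoidHom)
      (by rw [← pPrimePart_conj]; exact not_dvd_orderOf_pPrimePart _)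
    rw [← hc, show c * pPartElt p g * c⁻¹ * (c * pPrimePart p g * c⁻¹) =
      c * (pPartElt p g * pPrimePart p g) * c⁻¹ by group, he, isClassFunction_irr i.1 g c] at h1
    rw [h1, hc]
  have hsing : ∀ g : G, ∀ x : (P : Subgroup G), ∀ c : G, c * pPartElt p g * c⁻¹ = x → x ≠ 1 →
      (a iE : ℂ) * (iE.1 : G → ℂ) g = 1 := by
    intro g x c hc hx
    rw [hcolumn g x c hc hx, (hoth iE (hS' iE (mem_of_mem_erase hEmem))).2 x hx]
    exact_mod_cast hδ
  refine ⟨iE.1, a iE, hδ, fun he => (mem_erase.1 hEmem).1 (Subtype.ext he), fun g hg => ?_,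
    fun φ₁ φ₂ hind x hx => ?_⟩
  · obtain ⟨c, hc⟩ := exists_pPartElt_conj (p := p) P g
    exact hsing g ⟨_, hc⟩ c rfl fun e =>
      pPartElt_ne_one hg (conj_eq_one_iff.1 (congrArg Subtype.val e))
  have hεε : (ε : ℂ) * ε = 1 := by rcases hε with rfl | rfl <;> norm_num
  have hreg : ∀ g : G, ¬ p ∣ orderOf g → ∀ l : IrrCharacter (P : Subgroup G), l ≠ principal _ →
      (ε : ℂ) * ((y l).1 : G → ℂ) g = 1 + (a iE : ℂ) * (iE.1 : G → ℂ) g := by
    intro g hg l hl
    have h1 := (hψ (fun i => (i.1 : G → ℂ) g) (hdegψ g hg) l hl).2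
    rw [hfil, ← Finset.add_sum_erase _ _ hmem₀, hiE, sum_singleton, hai₀] at h1
    simp only [i₀, principal_apply, Int.cast_one, Int.cast_zero, mul_zero, mul_one, one_mul] at h1
    linear_combination -h1
  have hl : ∀ ij : ZMod p × ZMod p, ij ≠ 0 → linChar φ₁ φ₂ ij.1 ij.2 ≠ principal _ := by
    intro ij hij he
    refine hij (Prod.ext_iff.2 (hind _ _ fun u => ZMod.injective_stdAddChar ?_))
    rw [AddChar.map_zero_eq_one, ← linChar_apply, he, principal_apply]
  let f : ZMod p × ZMod p → G → ℂ := fun ij g => if ij = 0 then 2 else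
    (ε : ℂ) * ((y (linChar φ₁ φ₂ ij.1 ij.2)).1 : G → ℂ) g - (a iE : ℂ) * (iE.1 : G → ℂ) g + 1
  have hf : ∀ ij g, f ij g = ZMod.stdAddChar (form φ₁ φ₂ ij.1 ij.2 (x g)) +
      ZMod.stdAddChar (form φ₁ φ₂ ij.1 ij.2 (x g)⁻¹) := by
    intro ij g
    obtain ⟨c, hc⟩ := hx g
    by_cases hij : ij = 0
    · subst hij
      simp [f, form, AddChar.map_zero_eq_one]
      norm_num
    simp only [f, if_neg hij]
    by_cases hx1 : x g = 1
    · have hg : ¬ p ∣ orderOf g := fun hg => pPartElt_ne_one hg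
        (conj_eq_one_iff.1 (hc.trans (congrArg Subtype.val hx1)))
      rw [hreg g hg _ (hl ij hij), hx1, inv_one, form_one, AddChar.map_zero_eq_one]
      ring
    · rw [hcolumn g (x g) c hc hx1, hval2 _ (hl ij hij) _ hx1, hsing g (x g) c hc hx1]
      simp only [linChar_apply, Int.cast_zero, zero_add]
      linear_combination (ZMod.stdAddChar (form φ₁ φ₂ ij.1 ij.2 (x g)) +
        ZMod.stdAddChar (form φ₁ φ₂ ij.1 ij.2 (x g)⁻¹)) * hεε
  have hmean : ∀ ij, ∑ g, f ij g = (Nat.card G : ℂ) * if ij = 0 then 2 else 1 := by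
    intro ij
    by_cases hij : ij = 0
    · simp only [f, if_pos hij, Finset.sum_const, Finset.card_univ, ← Nat.card_eq_fintype_card,
        nsmul_eq_mul]
    simp only [f, if_neg hij, Finset.sum_add_distrib, Finset.sum_sub_distrib, ← Finset.mul_sum]
    have hX : (y (linChar φ₁ φ₂ ij.1 ij.2)).1 ≠ principal G := fun e =>
      hi₀ _ (hl ij hij) (Subtype.ext e)
    have hE1 : iE.1 ≠ principal G := fun e => (mem_erase.1 hEmem).1 (Subtype.ext e)
    rw [sum_irr_ne_principal hX, sum_irr_ne_principal hE1]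
    simp [Nat.card_eq_fintype_card]
  have hfour : ∀ g, ∑ ij : ZMod p × ZMod p, f ij g =
      2 * (p : ℂ) ^ 2 * if φ₁ (x g) = 1 ∧ φ₂ (x g) = 1 then 1 else 0 := by
    intro g
    simp only [hf, Finset.sum_add_distrib, form, map_inv, toAdd_inv, sum_linChar,
      neg_eq_zero, toAdd_eq_zero]
    split_ifs <;> ring
  have key := Finset.sum_comm (s := (univ : Finset G)) (t := (univ : Finset (ZMod p × ZMod p)))
    (f := fun g ij => f ij g)
  simp only [hfour, hmean, ← Finset.mul_sum, Finset.sum_boole] at key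
  rw [← Finset.add_sum_erase _ _ (mem_univ (0 : ZMod p × ZMod p)), if_pos rfl,
    Finset.sum_congr rfl fun ij hij => if_neg (mem_erase.1 hij).1, Finset.sum_const,
    Finset.card_erase_of_mem (mem_univ _), Finset.card_univ, Fintype.card_prod, ZMod.card,
    nsmul_eq_mul, mul_one, Nat.cast_sub (Nat.one_le_iff_ne_zero.2
      (mul_ne_zero (Fact.out : p.Prime).ne_zero (Fact.out : p.Prime).ne_zero))] at key
  push_cast at key
  have hfin : ((2 * p ^ 2 * (univ.filter fun g => φ₁ (x g) = 1 ∧ φ₂ (x g) = 1).card : ℕ) : ℂ) =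
      (((p ^ 2 + 1) * Nat.card G : ℕ) : ℂ) := by
    push_cast
    linear_combination key
  exact_mod_cast hfin

end CfsgLib.SmithTyrer
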