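import Cfsg.Agent.Lib.SmithTyrer.Cover
import Cfsg.Agent.Lib.SmithTyrer.Principal
import Cfsg.Agent.Lib.PGroups.Basic
import Cfsg.Agent.Lib.Chars.Induction

/-!
# Inverted lifts and the stable projective character of the Sylow subgroup of the cover
-/

set_option autoImplicit false
set_option linter.style.haveILetI false
set_option linter.unusedSectionVars false

namespace CfsgLib.SmithTyrer

open Cfsg CfsgLib.Chars CfsgLib.BlockOrth CfsgLib.Blocks Finset
open scoped ComplexConjugate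

universe u

variable {G : Type u} [Group G] {p : ℕ} [Fact p.Prime] {P : Sylow p G}

/-- A noncyclic abelian `p`-group has two independent forms. -/
theorem InvHyp.exists_forms [Finite G] (h : InvHyp P) :
    ∃ φ₁ φ₂ : (P : Subgroup G) →* Multiplicative (ZMod p),
      (∃ b, φ₁ b ≠ 1) ∧ ∀ i j : ZMod p, (∀ x, form φ₁ φ₂ i j x = 0) → i = 0 ∧ j = 0 := by
  haveI : Nontrivial (P : Subgroup G) := by
    by_contra hn
    rw [not_nontrivial_iff_subsingleton] at hn
    exact h.noncyclic isCyclic_of_subsingleton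
  obtain ⟨M₁, hM₁, -⟩ := (eq_top_or_exists_le_coatom (⊥ : Subgroup (P : Subgroup G))).resolve_left
    bot_ne_top
  obtain ⟨b, hb⟩ : ∃ b, b ∉ M₁ := by
    by_contra hn
    push Not at hn
    exact hM₁.1 ((Subgroup.eq_top_iff' _).2 hn)
  obtain ⟨M₂, hM₂, hbM₂⟩ := (eq_top_or_exists_le_coatom (Subgroup.zpowers b)).resolve_left
    fun hz => h.noncyclic ⟨b, fun y => Subgroup.mem_zpowers_iff.1 (by rw [hz]; exact Subgroup.mem_top y)⟩
  obtain ⟨a, ha, ha'⟩ : ∃ a ∈ M₁, a ∉ M₂ := by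
    by_contra hn
    push Not at hn
    rcases eq_or_lt_of_le (show M₁ ≤ M₂ from hn) with e | e
    · exact hb (e ▸ hbM₂ (Subgroup.mem_zpowers b))
    · exact hM₂.1 (hM₁.2 _ e)
  have hker : ∀ M : Subgroup (P : Subgroup G), IsCoatom M →
      ∃ φ : (P : Subgroup G) →* Multiplicative (ZMod p), ∀ x, φ x = 1 ↔ x ∈ M := by
    intro M hM
    haveI := PGroups.normal_of_isCoatom P.2 hM
    have hc : Nat.card ((P : Subgroup G) ⧸ M) = p := PGroups.index_eq_of_isCoatom P.2 hM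
    obtain ⟨e⟩ : Nonempty ((P : Subgroup G) ⧸ M ≃* Multiplicative (ZMod p)) :=
      ⟨mulEquivOfPrimeCardEq (p := p) hc (by simp)⟩
    refine ⟨e.toMonoidHom.comp (QuotientGroup.mk' M), fun x => ?_⟩
    simp [QuotientGroup.eq_one_iff]
  obtain ⟨φ₁, hφ₁⟩ := hker M₁ hM₁
  obtain ⟨φ₂, hφ₂⟩ := hker M₂ hM₂
  refine ⟨φ₁, φ₂, ⟨b, fun e => hb ((hφ₁ b).1 e)⟩, fun i j hij => ?_⟩
  have e1 := hij a
  rw [form, (hφ₁ a).2 ha, toAdd_one, mul_zero, zero_add, mul_eq_zero] at e1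
  have hj : j = 0 := e1.resolve_right fun e => ha' ((hφ₂ a).1 (toAdd_eq_zero.1 e))
  have e2 := hij b
  rw [form, hj, zero_mul, add_zero, mul_eq_zero] at e2
  exact ⟨e2.resolve_right fun e => hb ((hφ₁ b).1 (toAdd_eq_zero.1 e)), hj⟩

variable {K : Type u} [Group K] (π : K →* G)
  (φ₁ φ₂ : (P : Subgroup G) →* Multiplicative (ZMod p))

/-- The properties of the cover which are used. -/
structure IsCover : Prop where
  odd : p ≠ 2
  hyp : InvHyp P
  surj : Function.Surjective π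
  central : π.ker ≤ Subgroup.center K
  card_ker : Nat.card π.ker = p
  comm : ∀ (a b : K) (ha : π a ∈ (P : Subgroup G)) (hb : π b ∈ (P : Subgroup G)),
    a * b = b * a ↔
      Multiplicative.toAdd (φ₁ ⟨π a, ha⟩) * Multiplicative.toAdd (φ₂ ⟨π b, hb⟩) -
        Multiplicative.toAdd (φ₂ ⟨π a, ha⟩) * Multiplicative.toAdd (φ₁ ⟨π b, hb⟩) = 0
  nontriv : ∃ b, φ₁ b ≠ 1

/-- The common kernel of the two forms, in the group. -/
def formKer : Subgroup G := (φ₁.ker ⊓ φ₂.ker).map (P : Subgroup G).subtype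

theorem formKer_le : formKer φ₁ φ₂ ≤ (P : Subgroup G) := Subgroup.map_subtype_le _

theorem mem_formKer {x : G} (hx : x ∈ (P : Subgroup G)) :
    x ∈ formKer φ₁ φ₂ ↔ φ₁ ⟨x, hx⟩ = 1 ∧ φ₂ ⟨x, hx⟩ = 1 := by
  refine ⟨?_, fun h => ⟨⟨x, hx⟩, h, rfl⟩⟩
  rintro ⟨y, hy, rfl⟩
  exact hy

variable {π φ₁ φ₂}

theorem IsCover.pow_ker (D : IsCover π φ₁ φ₂) {z : K} (hz : z ∈ π.ker) : z ^ p = 1 := by
  have h := congrArg Subtype.val (pow_card_eq_one' (x := (⟨z, hz⟩ : π.ker)))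
  rw [D.card_ker] at h
  simpa using h

theorem IsCover.ker_comm (D : IsCover π φ₁ φ₂) {z : K} (hz : z ∈ π.ker) (k : K) :
    k * z = z * k := Subgroup.mem_center_iff.1 (D.central hz) k

theorem IsCover.eq_one_of_sq (D : IsCover π φ₁ φ₂) {z : K} (hz : z ∈ π.ker) (h : z * z = 1) :
    z = 1 := by
  have hc : Nat.Coprime p 2 := (Nat.coprime_primes Fact.out Nat.prime_two).2 D.odd
  simpa [Nat.Coprime] using (by
    rw [← hc]
    exact pow_gcd_eq_one.2 ⟨D.pow_ker hz, by rw [sq, h]⟩ : z ^ 1 = 1)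

theorem IsCover.isPGroup_comap [Finite G] (D : IsCover π φ₁ φ₂) :
    IsPGroup p ((P : Subgroup G).comap π) := by
  rintro ⟨k, hk⟩
  obtain ⟨n, hn⟩ := P.2 ⟨π k, hk⟩
  refine ⟨n + 1, Subtype.ext ?_⟩
  have hz : k ^ p ^ n ∈ π.ker := by
    rw [MonoidHom.mem_ker, map_pow]
    simpa using congrArg Subtype.val hn
  rw [Subgroup.coe_pow, pow_succ, pow_mul, D.pow_ker hz]
  rfl

theorem IsCover.not_dvd_index [Finite G] (D : IsCover π φ₁ φ₂) :
    ¬ p ∣ ((P : Subgroup G).comap π).index := by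
  rw [Subgroup.index_comap_of_surjective _ D.surj]
  exact P.not_dvd_index

/-- The lifts inverted by a fixed element. -/
def Inverted (π : K →* G) (P : Sylow p G) (T y : K) : Prop :=
  π y ∈ (P : Subgroup G) ∧ T * y * T⁻¹ = y⁻¹

variable {T : K}

theorem IsCover.exists_inverted (D : IsCover π φ₁ φ₂)
    (hT : ∀ x ∈ (P : Subgroup G), π T * x * (π T)⁻¹ = x⁻¹) {x : G} (hx : x ∈ (P : Subgroup G)) :
    ∃ y, Inverted π P T y ∧ π y = x := by
  obtain ⟨k, rfl⟩ := D.surj x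
  obtain ⟨w, hw⟩ : ∃ w, w = T * k * T⁻¹ * k := ⟨_, rfl⟩
  have hwk : w ∈ π.ker := by
    rw [MonoidHom.mem_ker, hw, map_mul, map_mul, map_mul, map_inv, hT _ hx, inv_mul_cancel]
  obtain ⟨m, hm⟩ : ∃ m, p = 2 * m + 1 :=
    (Fact.out : p.Prime).odd_of_ne_two D.odd
  have hz : w ^ m ∈ π.ker := pow_mem hwk m
  have h1 : w ^ (2 * m + 1) = 1 := hm ▸ D.pow_ker hwk
  refine ⟨k * w ^ m, ⟨by rwa [map_mul, hz, mul_one], eq_inv_of_mul_eq_one_left ?_⟩,
    by rw [map_mul, hz, mul_one]⟩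
  calc T * (k * w ^ m) * T⁻¹ * (k * w ^ m)
      = T * k * (w ^ m * (T⁻¹ * k)) * w ^ m := by group
    _ = T * k * ((T⁻¹ * k) * w ^ m) * w ^ m := by rw [D.ker_comm hz (T⁻¹ * k)]
    _ = w * w ^ (2 * m) := by rw [hw, two_mul, pow_add, ← hw, hw]; group
    _ = 1 := by rw [← pow_succ', h1]

theorem IsCover.inverted_unique (D : IsCover π φ₁ φ₂) {y y' : K} (hy : Inverted π P T y)
    (hy' : Inverted π P T y') (he : π y = π y') : y = y' := by
  obtain ⟨z, hzdef⟩ : ∃ z, z = y⁻¹ * y' := ⟨_, rfl⟩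
  have hz : z ∈ π.ker := by rw [MonoidHom.mem_ker, hzdef, map_mul, map_inv, he, inv_mul_cancel]
  have e : y' = y * z := by rw [hzdef, mul_inv_cancel_left]
  have h2 := hy'.2
  rw [e, mul_inv_rev, show T * (y * z) * T⁻¹ = T * y * (z * T⁻¹) by group, ← D.ker_comm hz,
    show T * y * (T⁻¹ * z) = T * y * T⁻¹ * z by group, hy.2, ← D.ker_comm (inv_mem hz) y⁻¹,
    mul_right_inj] at h2
  have hz1 : z = 1 := D.eq_one_of_sq hz (by nth_rw 1 [h2]; exact inv_mul_cancel z)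
  rw [e, hz1, mul_one]

theorem inverted_one : Inverted π P T 1 :=
  ⟨by rw [map_one]; exact one_mem _, by simp⟩

theorem inverted_inv {y : K} (hy : Inverted π P T y) : Inverted π P T y⁻¹ :=
  ⟨by rw [map_inv]; exact inv_mem hy.1, by rw [← conj_inv, hy.2]⟩

theorem inverted_mul {y y' : K} (hy : Inverted π P T y) (hy' : Inverted π P T y')
    (hc : y * y' = y' * y) : Inverted π P T (y * y') := by
  refine ⟨by rw [map_mul]; exact mul_mem hy.1 hy'.1, ?_⟩
  rw [← conj_mul, hy.2, hy'.2, ← mul_inv_rev, hc]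

theorem IsCover.comm_formKer (D : IsCover π φ₁ φ₂) {a b : K} (ha : π a ∈ (P : Subgroup G))
    (hb : π b ∈ formKer φ₁ φ₂) : a * b = b * a := by
  have hbP := formKer_le φ₁ φ₂ hb
  obtain ⟨h1, h2⟩ := (mem_formKer φ₁ φ₂ hbP).1 hb
  refine (D.comm a b ha hbP).2 ?_
  rw [h1, h2, toAdd_one]
  ring

/-- Lifts of commuting elements commute over the common kernel of the forms. -/
theorem IsCover.comm_of_proj [Finite G] (D : IsCover π φ₁ φ₂) [Finite K] {y : K}
    (hy : π y ∈ formKer φ₁ φ₂) {k : K} (hk : π k * π y = π y * π k) : k * y = y * k := by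
  obtain ⟨C, hC⟩ : ∃ C, C = (Subgroup.centralizer ({π y} : Set G)).comap π := ⟨_, rfl⟩
  have hmem : ∀ c : C, π c * π y = π y * π c := fun c => by
    exact Subgroup.mem_centralizer_singleton_iff.1 ((SetLike.ext_iff.1 hC (c : K)).1 c.2)
  have hcy : ∀ c : C, (c : K) * y * (c : K)⁻¹ * y⁻¹ ∈ π.ker := fun c => by
    rw [MonoidHom.mem_ker, map_mul, map_mul, map_mul, map_inv, map_inv, hmem c, mul_inv_cancel_right,
      mul_inv_cancel]
  let κ : C →* π.ker :=
    { toFun := fun c => ⟨_, hcy c⟩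
      map_one' := Subtype.ext (by simp)
      map_mul' := fun c d => Subtype.ext (by
        show (c : K) * d * y * ((c : K) * d)⁻¹ * y⁻¹ =
          (c : K) * y * (c : K)⁻¹ * y⁻¹ * ((d : K) * y * (d : K)⁻¹ * y⁻¹)
        rw [D.ker_comm (hcy d)]
        calc (c : K) * d * y * ((c : K) * d)⁻¹ * y⁻¹
            = (c : K) * ((d : K) * y * (d : K)⁻¹ * y⁻¹) * (y * (c : K)⁻¹ * y⁻¹) := by group
          _ = _ := by rw [D.ker_comm (hcy d)]; group) }
  have hsub : ((P : Subgroup G).comap π).subgroupOf C ≤ κ.ker := fun c hc => by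
    refine Subtype.ext ?_
    show (c : K) * y * (c : K)⁻¹ * y⁻¹ = 1
    rw [D.comm_formKer (show π (c : K) ∈ (P : Subgroup G) from hc) hy, mul_inv_cancel_right,
      mul_inv_cancel]
  have hPC : (P : Subgroup G).comap π ≤ C := fun c hc => by
    rw [hC, Subgroup.mem_comap, Subgroup.mem_centralizer_singleton_iff]
    exact D.hyp.comm _ hc _ (formKer_le φ₁ φ₂ hy)
  have hd : κ.ker.index ∣ ((P : Subgroup G).comap π).index :=
    (Subgroup.index_dvd_of_le hsub).trans (Dvd.intro _ (Subgroup.relIndex_mul_index hPC))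
  have h1 : κ.ker.index = 1 := by
    have h2 : κ.ker.index ∣ p := by
      rw [Subgroup.index_ker, ← D.card_ker]
      exact Subgroup.card_subgroup_dvd_card _
    rcases (Nat.dvd_prime Fact.out).1 h2 with e | e
    · exact e
    · rw [e] at hd; exact absurd hd D.not_dvd_index
  have hkC : k ∈ C := by rw [hC]; exact Subgroup.mem_centralizer_singleton_iff.2 hk
  have h3 : (⟨k, hkC⟩ : C) ∈ κ.ker := (Subgroup.index_eq_one.1 h1).symm ▸ Subgroup.mem_top _
  have h4 : k * y * k⁻¹ * y⁻¹ = 1 := congrArg Subtype.val (MonoidHom.mem_ker.1 h3)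
  rwa [mul_inv_eq_one, mul_inv_eq_iff_eq_mul] at h4

/-- The central factor of a lift is an invariant of the conjugacy class. -/
theorem IsCover.central_unique [Finite G] [Finite K] (D : IsCover π φ₁ φ₂)
    (hT : ∀ x ∈ (P : Subgroup G), π T * x * (π T)⁻¹ = x⁻¹) {z z' y y' c : K}
    (hz : z ∈ π.ker) (hz' : z' ∈ π.ker) (hy : Inverted π P T y) (hy' : Inverted π P T y')
    (hyR : π y ∈ formKer φ₁ φ₂) (h : c * (z * y) * c⁻¹ = z' * y') : z = z' := by
  have e : c * (z * y) * c⁻¹ = z * (c * y * c⁻¹) := by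
    calc c * (z * y) * c⁻¹ = c * z * (y * c⁻¹) := by group
      _ = _ := by rw [D.ker_comm hz]; group
  rw [e] at h
  have hp' : π c * π y * (π c)⁻¹ = π y' := by
    have := congrArg π h
    rwa [map_mul, map_mul π z' y', MonoidHom.mem_ker.1 hz, MonoidHom.mem_ker.1 hz', one_mul,
      one_mul, map_mul, map_mul, map_inv] at this
  rcases D.hyp.fusion hy.1 (hp' ▸ hy'.1) with e1 | e1
  · have hc : c * y * c⁻¹ = y :=
      mul_inv_eq_of_eq_mul (D.comm_of_proj hyR (mul_inv_eq_iff_eq_mul.1 e1))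
    rw [hc, ← D.inverted_unique hy hy' (by rw [← hp', e1])] at h
    exact mul_right_cancel h
  · have hc : c * y * c⁻¹ = y⁻¹ := by
      have h1 : π (T⁻¹ * c) * π y = π y * π (T⁻¹ * c) := by
        rw [map_mul, map_inv]
        have h2 := hT (π y) hy.1
        rw [← e1, mul_inv_eq_iff_eq_mul] at h2
        calc (π T)⁻¹ * π c * π y
            = (π T)⁻¹ * (π c * π y * (π c)⁻¹ * π T) * ((π T)⁻¹ * π c) := by group
          _ = π y * ((π T)⁻¹ * π c) := by rw [← h2, inv_mul_cancel_left]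
      have h3 := D.comm_of_proj hyR h1
      calc c * y * c⁻¹ = T * ((T⁻¹ * c) * y) * c⁻¹ := by group
        _ = T * y * T⁻¹ := by rw [h3]; group
        _ = y⁻¹ := hy.2
    rw [hc, ← D.inverted_unique (inverted_inv hy) hy' (by rw [map_inv, ← e1, hp'])] at h
    exact mul_right_cancel h

/-- The data of a central coordinate of an element over the kernel of the forms. -/
def HasCoord (π : K →* G) (φ₁ φ₂ : (P : Subgroup G) →* Multiplicative (ZMod p)) (T k z : K) : Prop :=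
  z ∈ π.ker ∧ ∃ c y, Inverted π P T y ∧ π y ∈ formKer φ₁ φ₂ ∧ c * k * c⁻¹ = z * y

theorem IsCover.coord_unique [Finite G] [Finite K] (D : IsCover π φ₁ φ₂)
    (hT : ∀ x ∈ (P : Subgroup G), π T * x * (π T)⁻¹ = x⁻¹) {k z z' : K}
    (h : HasCoord π φ₁ φ₂ T k z) (h' : HasCoord π φ₁ φ₂ T k z') : z = z' := by
  obtain ⟨hz, c, y, hy, hyR, e⟩ := h
  obtain ⟨hz', c', y', hy', -, e'⟩ := h'
  refine D.central_unique hT (c := c' * c⁻¹) hz hz' hy hy' hyR ?_
  rw [← e, ← e']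
  group

theorem hasCoord_conj {k z : K} (d : K) (h : HasCoord π φ₁ φ₂ T k z) :
    HasCoord π φ₁ φ₂ T (d * k * d⁻¹) z := by
  obtain ⟨hz, c, y, hy, hyR, e⟩ := h
  exact ⟨hz, c * d⁻¹, y, hy, hyR, by rw [← e]; group⟩

theorem IsCover.exists_coord_iff [Finite G] [Finite K] (D : IsCover π φ₁ φ₂)
    (hT : ∀ x ∈ (P : Subgroup G), π T * x * (π T)⁻¹ = x⁻¹) (k : K) {x g : G}
    (hx : x ∈ (P : Subgroup G)) (hgx : g * π k * g⁻¹ = x) :
    (∃ z, HasCoord π φ₁ φ₂ T k z) ↔ x ∈ formKer φ₁ φ₂ := by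
  constructor
  · rintro ⟨z, hz, c, y, hy, hyR, e⟩
    have e1 : π c * π k * (π c)⁻¹ = π y := by
      have := congrArg π e
      rwa [map_mul, map_mul, map_inv, map_mul, MonoidHom.mem_ker.1 hz, one_mul] at this
    have e2 : g * (π c)⁻¹ * π y * (g * (π c)⁻¹)⁻¹ = x := by rw [← e1, ← hgx]; group
    rcases D.hyp.fusion hy.1 (e2 ▸ hx) with e3 | e3
    · rwa [← e2, e3]
    · rw [← e2, e3]; exact inv_mem hyR
  · intro hR
    obtain ⟨d, rfl⟩ := D.surj g
    obtain ⟨y, hy, hyx⟩ := D.exists_inverted hT hx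
    refine ⟨d * k * d⁻¹ * y⁻¹, ?_, d, y, hy, hyx ▸ hR, (inv_mul_cancel_right _ _).symm⟩
    rw [MonoidHom.mem_ker, map_mul, map_mul, map_mul, map_inv, map_inv, hgx, hyx, mul_inv_cancel]

end CfsgLib.SmithTyrer
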