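import Cfsg.Agent.Lib.SmithTyrer.Chars
import Cfsg.Agent.Lib.Involutions.ZStar.TwoPart
import Cfsg.Agent.Lib.Chars.Integral

/-!
# No simple group has an abelian noncyclic Sylow subgroup of odd order with automizer inversion
-/

set_option autoImplicit false
set_option linter.style.haveILetI false
set_option linter.unusedSectionVars false

namespace CfsgLib.SmithTyrer

open Cfsg CfsgLib.Chars CfsgLib.BlockOrth CfsgLib.Blocks Finset
open CfsgLib.Involutions.ZStar (isGeneralized_sub' isGeneralized_nsmul')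
open scoped ComplexConjugate

universe u

open scoped Classical in
/-- The sum over the products of two elements of a class. -/
theorem sum_class_pairs {H : Type u} [Group H] [Fintype H] {θ : H → ℂ}
    (hθ : IsGeneralizedCharacter H θ) (h1 : classInner θ θ = 1) (h : H) :
    (∑ x ∈ univ.filter (IsConj h), ∑ y ∈ univ.filter (IsConj h), θ (x * y)) * θ 1 =
      (((univ.filter (IsConj h)).card : ℂ)) ^ 2 * θ h ^ 2 := by
  have key : ∀ χ : H → ℂ, IsIrrCharacter H χ →
      (∑ x ∈ univ.filter (IsConj h), ∑ y ∈ univ.filter (IsConj h), χ (x * y)) * χ 1 =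
        (((univ.filter (IsConj h)).card : ℂ)) ^ 2 * χ h ^ 2 := by
    intro χ hχ
    have hc : ((univ.filter (IsConj h)).card : ℂ) = (Nat.card {y : H // IsConj h y} : ℂ) := by
      rw [Nat.card_eq_fintype_card, Fintype.card_subtype]
    have e : ∀ x ∈ univ.filter (IsConj h), (∑ y ∈ univ.filter (IsConj h), χ (x * y)) * χ 1 =
        ((univ.filter (IsConj h)).card : ℂ) * χ h ^ 2 := fun x hx => by
      rw [Finset.sum_filter, sum_translate_class hχ x h, div_mul_cancel₀ _ (irr_degree_ne_zero hχ),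
        hc]
      obtain ⟨c, rfl⟩ := isConj_iff.1 (mem_filter.1 hx).2
      rw [isClassFunction_of_isCharacter (isCharacter_of_irr hχ) h c]
      ring
    rw [Finset.sum_mul, Finset.sum_congr rfl e, Finset.sum_const, nsmul_eq_mul]
    ring
  rcases irr_or_neg_irr_of_norm_one hθ h1 with hi | hi
  · exact key θ hi
  · have := key _ hi
    simp only [Pi.neg_apply, Finset.sum_neg_distrib, neg_mul_neg, even_two.neg_pow] at this
    exact this

variable {G : Type u} [Group G] [Fintype G] {p : ℕ} [Fact p.Prime] {P : Sylow p G}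

theorem InvHyp.exists_involution (hp : p ≠ 2) (h : InvHyp P) : ∃ t : G, orderOf t = 2 := by
  obtain ⟨t, ht⟩ := h.exists_inv
  obtain ⟨x, hx, hx1⟩ : ∃ x ∈ (P : Subgroup G), x ≠ 1 := by
    have := h.nine_le_card hp
    haveI := Finite.one_lt_card_iff_nontrivial.1 (show 1 < Nat.card (P : Subgroup G) by omega)
    obtain ⟨u, hu⟩ := exists_ne (1 : (P : Subgroup G))
    exact ⟨u, u.2, fun e => hu (Subtype.ext e)⟩
  have hiter : ∀ k : ℕ, t ^ k * x * (t ^ k)⁻¹ = if Even k then x else x⁻¹ := by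
    intro k
    induction k with
    | zero => simp
    | succ k ih =>
      rw [pow_succ', show t * t ^ k * x * (t * t ^ k)⁻¹ = t * (t ^ k * x * (t ^ k)⁻¹) * t⁻¹ by group,
        ih]
      by_cases hk : Even k
      · rw [if_pos hk, if_neg (Nat.even_add_one.not.2 (not_not.2 hk)), ht x hx]
      · rw [if_neg hk, if_pos (Nat.even_add_one.2 hk), ← conj_inv, ht x hx, inv_inv]
  have hev : Even (orderOf t) := by
    by_contra hodd
    have := hiter (orderOf t)
    rw [if_neg hodd, pow_orderOf_eq_one, one_mul, inv_one, mul_one] at this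
    exact hx1 (eq_one_of_inv_eq hp P hx this)
  haveI : Fact (Nat.Prime 2) := ⟨Nat.prime_two⟩
  exact exists_prime_orderOf_dvd_card' 2 ((even_iff_two_dvd.1 hev).trans (orderOf_dvd_natCard t))

set_option maxHeartbeats 800000 in
open scoped Classical in
/-- **The simple case.** -/
theorem InvHyp.not_isSimpleGroup (hp : p ≠ 2) (h : InvHyp P) : ¬ IsSimpleGroup G := by
  intro hsimple
  obtain ⟨E, δ, hδ, hne, hsing, hcount⟩ := principal_data hp h
  obtain ⟨φ₁, φ₂, hnt, hind⟩ := h.exists_forms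
  obtain ⟨K, _, _, π, hsurj, hcen, hker, hcomm⟩ := h.exists_cover hp φ₁ φ₂
  haveI : Fintype K := Fintype.ofFinite K
  have D : IsCover π φ₁ φ₂ := ⟨hp, h, hsurj, hcen, hker, hcomm, hnt⟩
  obtain ⟨t₀, ht₀⟩ := h.exists_inv
  obtain ⟨T, rfl⟩ := D.surj t₀
  obtain ⟨lam, hlam⟩ : ∃ lam : π.ker →* ℂ, Function.Injective lam := by
    obtain ⟨e⟩ : Nonempty (π.ker ≃* Multiplicative (ZMod p)) :=
      ⟨mulEquivOfPrimeCardEq (p := p) hker (by simp)⟩
    exact ⟨(ZMod.stdAddChar (N := p)).toMonoidHom.comp e.toMonoidHom,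
      fun a b hab => e.injective (Multiplicative.toAdd.injective (ZMod.injective_stdAddChar hab))⟩
  obtain ⟨φ, hφdef⟩ : ∃ φ : G → ℂ, φ = fun g => 1 - (δ : ℂ) * (E : G → ℂ) g := ⟨_, rfl⟩
  have hφgen : IsGeneralizedCharacter G φ := by
    rcases mul_self_eq_one_iff.1 hδ with rfl | rfl
    · exact ⟨fun _ => 1, (E : G → ℂ), isCharacter_one, isCharacter_of_irr E.2, by
        funext g; simp [hφdef]⟩
    · exact ⟨(fun _ => 1) + (E : G → ℂ), 0,
        isCharacter_add isCharacter_one (isCharacter_of_irr E.2), isCharacter_zero, by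
        funext g; simp [hφdef, sub_neg_eq_add]⟩
  have hφsing : ∀ g, p ∣ orderOf g → φ g = 0 := fun g hg => by
    rw [hφdef]; simp [hsing g hg]
  obtain ⟨Θ, hΘdef⟩ : ∃ Θ : K → ℂ, Θ = fun k => thetaFun φ₁ φ₂ T lam (pPartElt p k) := ⟨_, rfl⟩
  obtain ⟨Δ, hΔdef⟩ : ∃ Δ : K → ℂ, Δ = fun k => kerFun lam (pPartElt p k) * φ (π k) := ⟨_, rfl⟩
  have hΘgen : IsGeneralizedCharacter K Θ := hΘdef ▸ D.isGeneralized_theta ht₀ hlam
  have hΔgen : IsGeneralizedCharacter K Δ := hΔdef ▸ D.isGeneralized_twist lam hφgen hφsing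
  have hkerIff : ∀ k : K, pPartElt p k ∈ π.ker ↔ ¬ p ∣ orderOf (π k) := fun k => by
    rw [MonoidHom.mem_ker, ← pPartElt_map, pPartElt_eq_one_iff]
  have hsum : ∀ F : G → ℂ, ∑ k : K, F (π k) = (p : ℂ) * ∑ g : G, F g := by
    intro F
    rw [← Finset.sum_fiberwise univ π fun k => F (π k), Finset.mul_sum]
    refine Finset.sum_congr rfl fun g _ => ?_
    rw [Finset.sum_congr rfl fun k hk => by rw [(mem_filter.1 hk).2], Finset.sum_const,
      nsmul_eq_mul]
    congr 1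
    obtain ⟨k₀, rfl⟩ := D.surj g
    rw [← hker, Nat.card_eq_fintype_card, ← Fintype.card_subtype]
    congr 1
    refine Fintype.card_congr (Equiv.subtypeEquiv (Equiv.mulLeft k₀⁻¹) fun k => ?_)
    rw [Equiv.coe_mulLeft, MonoidHom.mem_ker, map_mul, map_inv, inv_mul_eq_one, eq_comm]
  -- the pointwise products
  have hΔΔ : ∀ k, Δ k * conj (Δ k) = φ (π k) * conj (φ (π k)) := fun k => by
    rw [hΔdef]
    by_cases hz : pPartElt p k ∈ π.ker
    · rw [map_mul]
      linear_combination (φ (π k) * conj (φ (π k))) * kerFun_norm lam hz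
    · simp [hφsing _ (not_not.1 fun hn => hz ((hkerIff k).2 hn))]
  have hΘΔ : ∀ k, Θ k * conj (Δ k) = (p : ℂ) * conj (φ (π k)) := fun k => by
    rw [hΔdef, hΘdef]
    show thetaFun φ₁ φ₂ T lam (pPartElt p k) * conj (kerFun lam (pPartElt p k) * φ (π k)) = _
    by_cases hz : pPartElt p k ∈ π.ker
    · rw [map_mul, D.thetaFun_ker ht₀ lam hz]
      linear_combination ((p : ℂ) * conj (φ (π k))) * kerFun_norm lam hz
    · simp [hφsing _ (not_not.1 fun hn => hz ((hkerIff k).2 hn))]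
  have hΔΘ : ∀ k, Δ k * conj (Θ k) = (p : ℂ) * φ (π k) := fun k => by
    have := congrArg conj (hΘΔ k)
    simp only [map_mul, Complex.conj_conj, map_natCast] at this
    rw [← this, mul_comm]
  choose c hc using fun g => exists_pPartElt_conj (p := p) P g
  obtain ⟨N, hN⟩ : ∃ N : ℕ, N = (univ.filter fun g : G =>
      φ₁ ⟨_, hc g⟩ = 1 ∧ φ₂ ⟨_, hc g⟩ = 1).card := ⟨_, rfl⟩
  have hN2 : 2 * p ^ 2 * N = (p ^ 2 + 1) * Nat.card G :=
    hN ▸ hcount φ₁ φ₂ hind (fun g => ⟨_, hc g⟩) fun g => ⟨c g, rfl⟩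
  have hΘΘ : ∀ k, Θ k * conj (Θ k) = (p : ℂ) ^ 2 *
      if φ₁ ⟨_, hc (π k)⟩ = 1 ∧ φ₂ ⟨_, hc (π k)⟩ = 1 then 1 else 0 := fun k => by
    have hiff := (D.exists_coord_iff ht₀ (pPartElt p k) (hc (π k))
      (g := c (π k)) (by rw [← pPartElt_map])).trans (mem_formKer φ₁ φ₂ (hc (π k)))
    rw [hΘdef]
    split_ifs with hx
    · obtain ⟨z, hz⟩ := hiff.2 hx
      show thetaFun φ₁ φ₂ T lam _ * conj (thetaFun φ₁ φ₂ T lam _) = _
      rw [D.thetaFun_eq ht₀ lam hz, map_mul, map_natCast]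
      linear_combination ((p : ℂ) ^ 2) * kerFun_norm lam hz.1
    · show thetaFun φ₁ φ₂ T lam _ * conj (thetaFun φ₁ φ₂ T lam _) = _
      rw [thetaFun_zero lam fun hz => hx (hiff.1 hz)]
      simp
  -- the sums over the group
  have hδc : (δ : ℂ) * δ = 1 := by exact_mod_cast hδ
  have hE0 : ∑ g : G, (E : G → ℂ) g = 0 := sum_irr_ne_principal hne
  have hE0' : ∑ g : G, conj ((E : G → ℂ) g) = 0 := by rw [← map_sum, hE0, map_zero]
  have hE1 : ∑ g : G, (E : G → ℂ) g * conj ((E : G → ℂ) g) = Fintype.card G := by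
    have := inner_irr_self E
    rw [inner_def, inv_mul_eq_one₀ (card_ne_zero G), Nat.card_eq_fintype_card] at this
    exact this.symm
  have hφsum : ∑ g : G, φ g = Fintype.card G := by
    simp only [hφdef, Finset.sum_sub_distrib, ← Finset.mul_sum, hE0]
    simp
  have hφsum' : ∑ g : G, conj (φ g) = Fintype.card G := by rw [← map_sum, hφsum, map_natCast]
  have hφnorm : ∑ g : G, φ g * conj (φ g) = 2 * Fintype.card G := by
    have e : ∀ g, φ g * conj (φ g) = 1 - (δ : ℂ) * (E : G → ℂ) g - (δ : ℂ) * conj ((E : G → ℂ) g) +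
        (E : G → ℂ) g * conj ((E : G → ℂ) g) := fun g => by
      simp only [hφdef, map_sub, map_mul, map_one, map_intCast]
      linear_combination ((E : G → ℂ) g * conj ((E : G → ℂ) g)) * hδc
    simp only [e, Finset.sum_add_distrib, Finset.sum_sub_distrib, ← Finset.mul_sum, hE0, hE0', hE1]
    simp
    ring
  -- the two signed irreducible characters
  obtain ⟨m, hm⟩ : ∃ m, p = 2 * m + 1 := (Fact.out : p.Prime).odd_of_ne_two hp
  let A : ℕ → K → ℂ := fun a => Θ - (a : ℂ) • Δ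
  have hAgen : ∀ a, IsGeneralizedCharacter K (A a) := fun a =>
    isGeneralized_sub' hΘgen (isGeneralized_nsmul' a hΔgen)
  have hcardK : (Nat.card K : ℂ) = (p : ℂ) * Fintype.card G := by
    have := hsum fun _ => 1
    simpa [Nat.card_eq_fintype_card] using this
  have hnorm : ∀ a, a = m ∨ a = m + 1 → classInner (A a) (A a) = 1 := by
    intro a ha
    rw [inner_def, inv_mul_eq_one₀ (card_ne_zero K), hcardK]
    symm
    have e : ∀ k, A a k * conj (A a k) = Θ k * conj (Θ k) - (a : ℂ) * (Θ k * conj (Δ k)) -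
        (a : ℂ) * (Δ k * conj (Θ k)) + (a : ℂ) ^ 2 * (Δ k * conj (Δ k)) := fun k => by
      simp only [A, Pi.sub_apply, Pi.smul_apply, smul_eq_mul, map_sub, map_mul, map_natCast]
      ring
    simp only [e, hΘΘ, hΘΔ, hΔΘ, hΔΔ, Finset.sum_add_distrib, Finset.sum_sub_distrib,
      ← Finset.mul_sum]
    rw [hsum fun g => if φ₁ ⟨_, hc g⟩ = 1 ∧ φ₂ ⟨_, hc g⟩ = 1 then 1 else 0,
      hsum fun g => φ g * conj (φ g), hsum φ, hsum fun g => conj (φ g), hφsum, hφsum', hφnorm,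
      Finset.sum_boole, ← hN]
    have hN' : 2 * (p : ℂ) ^ 2 * N = ((p : ℂ) ^ 2 + 1) * Fintype.card G := by
      rw [← Nat.card_eq_fintype_card]; exact_mod_cast hN2
    have hp' : (p : ℂ) = 2 * m + 1 := by rw [hm]; push_cast; rfl
    rw [hp'] at hN' ⊢
    rcases ha with rfl | rfl
    · linear_combination ((2 * (a : ℂ) + 1) / 2) * hN'
    · push_cast
      linear_combination ((2 * (m : ℂ) + 1) / 2) * hN'
  -- an involution and its class
  obtain ⟨τ, hτ⟩ := h.exists_involution hp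
  obtain ⟨k₀, hk₀⟩ := D.surj τ
  obtain ⟨U, hUdef⟩ : ∃ U, U = k₀ ^ p := ⟨_, rfl⟩
  have hττ : τ * τ = 1 := by rw [← sq, ← hτ, pow_orderOf_eq_one]
  have hπU : π U = τ := by rw [hUdef, map_pow, hk₀, hm, pow_succ, pow_mul, sq, hττ, one_pow, one_mul]
  have hU2 : U * U = 1 := by
    rw [hUdef, ← sq, ← pow_mul, mul_comm p, pow_mul]
    exact D.pow_ker (by rw [MonoidHom.mem_ker, map_pow, hk₀, sq, hττ])
  obtain ⟨CK, hCK⟩ : ∃ CK : Finset K, CK = univ.filter (IsConj U) := ⟨_, rfl⟩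
  obtain ⟨CG, hCG⟩ : ∃ CG : Finset G, CG = univ.filter (IsConj τ) := ⟨_, rfl⟩
  have hCKsq : ∀ x ∈ CK, x * x = 1 := fun x hx => by
    rw [hCK] at hx
    obtain ⟨d, rfl⟩ := isConj_iff.1 (mem_filter.1 hx).2
    rw [conj_mul, hU2, mul_one, mul_inv_cancel]
  have himg : ∀ x ∈ CK, π x ∈ CG := fun x hx => by
    rw [hCK] at hx
    rw [hCG]
    exact mem_filter.2 ⟨mem_univ _, hπU ▸ π.map_isConj (mem_filter.1 hx).2⟩
  have hinj : ∀ x ∈ CK, ∀ y ∈ CK, π x = π y → x = y := by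
    intro x hx y hy he
    obtain ⟨z, hzdef⟩ : ∃ z, z = x * y := ⟨_, rfl⟩
    have hz : z ∈ π.ker := by
      rw [MonoidHom.mem_ker, hzdef, map_mul, he, ← map_mul, hCKsq y hy, map_one]
    have hy' : y = x * z := by rw [hzdef, ← mul_assoc, hCKsq x hx, one_mul]
    have h2 := hCKsq y hy
    rw [hy', show x * z * (x * z) = x * (z * x) * z by group, ← D.ker_comm hz x,
      show x * (x * z) * z = x * x * (z * z) by group, hCKsq x hx, one_mul] at h2
    rw [hy', D.eq_one_of_sq hz h2, mul_one]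
  have hsurjC : ∀ g ∈ CG, ∃ x ∈ CK, π x = g := fun g hg => by
    rw [hCG] at hg
    obtain ⟨d, rfl⟩ := isConj_iff.1 (mem_filter.1 hg).2
    obtain ⟨e, rfl⟩ := D.surj d
    exact ⟨e * U * e⁻¹, by rw [hCK]; exact mem_filter.2 ⟨mem_univ _, isConj_iff.2 ⟨e, rfl⟩⟩,
      by rw [map_mul, map_mul, map_inv, hπU]⟩
  have hreb : ∀ F : G → ℂ, ∑ x ∈ CK, F (π x) = ∑ g ∈ CG, F g := fun F =>
    Finset.sum_bij (fun x _ => π x) (fun x hx => himg x hx) (fun x hx y hy => hinj x hx y hy)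
      (fun g hg => (hsurjC g hg).imp fun x hx => ⟨hx.1, hx.2⟩) fun _ _ => rfl
  have hΔxy : ∀ x ∈ CK, ∀ y ∈ CK, Δ (x * y) = φ (π x * π y) := by
    intro x hx y hy
    rw [hΔdef, ← map_mul]
    show kerFun lam (pPartElt p (x * y)) * φ (π (x * y)) = φ (π (x * y))
    by_cases hz : pPartElt p (x * y) ∈ π.ker
    · have hinv : x * pPartElt p (x * y) * x⁻¹ = (pPartElt p (x * y))⁻¹ := by
        obtain ⟨hcm, ⟨k, hk⟩, he⟩ := pPartElt_spec (p := p) (x * y)
        rw [← pPartElt_conj]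
        conv_lhs => rw [show x * (x * y) * x⁻¹ = (x * y)⁻¹ by
          rw [eq_inv_of_mul_eq_one_left (hCKsq x hx), mul_inv_rev, inv_inv,
            inv_eq_of_mul_eq_one_right (hCKsq y hy), ← eq_inv_of_mul_eq_one_left (hCKsq x hx),
            ← mul_assoc, hCKsq x hx, one_mul]]
        conv_lhs => rw [← he, hcm.eq, mul_inv_rev]
        refine pPartElt_mul hcm.inv_inv
          ⟨k, by rw [inv_pow, inv_eq_one, ← hk, pow_orderOf_eq_one]⟩ ?_
        rw [orderOf_inv]
        exact not_dvd_orderOf_pPrimePart _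
      rw [D.ker_comm hz, mul_inv_cancel_right] at hinv
      rw [D.eq_one_of_sq hz (by nth_rw 2 [hinv]; exact mul_inv_cancel _), kerFun_one, one_mul]
    · rw [hφsing _ (not_not.1 fun hn => hz ((hkerIff _).2 hn)), mul_zero]
  -- the class relation
  have hcardC : CK.card = CG.card := Finset.card_bij (fun x _ => π x) himg
    (fun x hx y hy => hinj x hx y hy) fun g hg => (hsurjC g hg).imp fun x hx => ⟨hx.1, hx.2⟩
  obtain ⟨f, hf⟩ : ∃ f : ℂ, f = (δ : ℂ) * (E : G → ℂ) 1 := ⟨_, rfl⟩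
  obtain ⟨s, hs⟩ : ∃ s : ℂ, s = (δ : ℂ) * (E : G → ℂ) τ := ⟨_, rfl⟩
  have hval : ∀ k : K, ¬ p ∣ orderOf k → ∀ a : ℕ,
      A a k = (p : ℂ) - (a : ℂ) * (1 - (δ : ℂ) * (E : G → ℂ) (π k)) := fun k hk a => by
    simp only [A, Pi.sub_apply, Pi.smul_apply, smul_eq_mul, hΘdef, hΔdef, hφdef]
    rw [pPartElt_of_regular hk, D.thetaFun_ker ht₀ lam (one_mem _), kerFun_one, one_mul, mul_one]
  have hU1 : ¬ p ∣ orderOf U := fun hd => by
    have h2 : orderOf U ∣ 2 := orderOf_dvd_of_pow_eq_one (by rw [sq, hU2])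
    have := Nat.le_of_dvd two_pos (hd.trans h2)
    have := (Fact.out : p.Prime).two_le
    omega
  have h1' : ¬ p ∣ orderOf (1 : K) := by rw [orderOf_one]; exact (Fact.out : p.Prime).not_dvd_one
  have hS : ∀ a, a = m ∨ a = m + 1 → (∑ x ∈ CK, ∑ y ∈ CK, A a (x * y)) *
      ((p : ℂ) - (a : ℂ) * (1 - f)) = (CG.card : ℂ) ^ 2 * ((p : ℂ) - (a : ℂ) * (1 - s)) ^ 2 := by
    intro a ha
    have := sum_class_pairs (hAgen a) (hnorm a ha) U
    rwa [← hCK, hcardC, hval 1 h1', hval U hU1, map_one, hπU, ← hf, ← hs] at this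
  have hSE := sum_class_pairs (θ := (E : G → ℂ))
    ⟨(E : G → ℂ), 0, isCharacter_of_irr E.2, isCharacter_zero, (sub_zero _).symm⟩
    (inner_irr_self E) τ
  rw [← hCG] at hSE
  have hdiff : (∑ x ∈ CK, ∑ y ∈ CK, A m (x * y)) - (∑ x ∈ CK, ∑ y ∈ CK, A (m + 1) (x * y)) =
      (CG.card : ℂ) ^ 2 - (δ : ℂ) * ∑ g ∈ CG, ∑ g' ∈ CG, (E : G → ℂ) (g * g') := by
    simp only [← Finset.sum_sub_distrib]
    have e : ∀ x ∈ CK, ∑ y ∈ CK, (A m (x * y) - A (m + 1) (x * y)) =
        ∑ g' ∈ CG, φ (π x * g') := fun x hx => by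
      rw [← hreb fun g => φ (π x * g)]
      refine Finset.sum_congr rfl fun y hy => ?_
      rw [← hΔxy x hx y hy]
      simp only [A, Pi.sub_apply, Pi.smul_apply, smul_eq_mul]
      push_cast
      ring
    rw [Finset.sum_congr rfl e, hreb fun g => ∑ g' ∈ CG, φ (g * g')]
    simp only [hφdef, Finset.sum_sub_distrib, ← Finset.mul_sum, Finset.sum_const, nsmul_eq_mul]
    ring
  have hM0 : (CG.card : ℂ) ≠ 0 := by
    refine Nat.cast_ne_zero.2 (Finset.card_ne_zero.2 ⟨τ, ?_⟩)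
    rw [hCG]
    exact mem_filter.2 ⟨mem_univ _, IsConj.refl _⟩
  have hp' : (p : ℂ) = 2 * m + 1 := by rw [hm]; push_cast; rfl
  have S1 := hS m (Or.inl rfl)
  have S2 := hS (m + 1) (Or.inr rfl)
  push_cast at S2
  rw [hp'] at S1 S2
  obtain ⟨X₁, hX₁⟩ : ∃ X : ℂ, X = 2 * (m : ℂ) + 1 - (m : ℂ) * (1 - f) := ⟨_, rfl⟩
  obtain ⟨X₂, hX₂⟩ : ∃ X : ℂ, X = 2 * (m : ℂ) + 1 - ((m : ℂ) + 1) * (1 - f) := ⟨_, rfl⟩
  have hfinal : (CG.card : ℂ) ^ 2 * ((((m : ℂ) + 1) * m) * ((1 - f) * (f - s) ^ 2)) = 0 := by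
    rw [← hX₁] at S1
    rw [← hX₂] at S2
    linear_combination (norm := (subst hf hs hX₁ hX₂; ring))
      (-(f * X₂)) * S1 + (f * X₁) * S2 + (f * X₁ * X₂) * hdiff +
        (-(X₁ * X₂) * ((δ : ℂ) * δ)) * hSE
  have hm0 : (m : ℂ) ≠ 0 := by
    rw [Nat.cast_ne_zero]
    have := (Fact.out : p.Prime).two_le
    omega
  have hm1 : (m : ℂ) + 1 ≠ 0 := by exact_mod_cast Nat.succ_ne_zero m
  rw [mul_eq_zero, mul_eq_zero] at hfinal
  rcases (hfinal.resolve_left (pow_ne_zero 2 hM0)).resolve_left (mul_ne_zero hm1 hm0) |>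
    mul_eq_zero.1 with hf1 | hfs
  · -- a linear character
    rw [sub_eq_zero, hf, CharApps.deg_eq] at hf1
    have hd : δ * (charDegree (E : G → ℂ) : ℤ) = 1 := by exact_mod_cast hf1.symm
    have h11 : (E : G → ℂ) 1 = 1 := by
      rw [CharApps.deg_eq]
      rcases mul_self_eq_one_iff.1 hδ with rfl | rfl
      · exact_mod_cast (one_mul (charDegree (E : G → ℂ) : ℤ)).symm.trans hd
      · omega
    obtain ⟨ℓ, hℓ⟩ := exists_hom_of_degree_one (isCharacter_of_irr E.2) h11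
    rcases hsimple.eq_bot_or_eq_top_of_normal ℓ.ker inferInstance with hb | ht
    · obtain ⟨x, hx⟩ : ∃ x : (P : Subgroup G), x ≠ 1 := by
        have := h.nine_le_card hp
        haveI := Finite.one_lt_card_iff_nontrivial.1 (show 1 < Nat.card (P : Subgroup G) by omega)
        exact exists_ne 1
      refine hx (Subtype.ext (eq_one_of_inv_eq hp P x.2 ?_))
      rw [← ht₀ x x.2]
      refine (MonoidHom.ker_eq_bot_iff ℓ).1 hb ?_
      rw [map_mul, map_mul, map_inv, mul_comm (ℓ (π T)), mul_inv_cancel_right]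
    · refine hne (Subtype.ext (funext fun g => ?_))
      have hg : ℓ g = 1 := MonoidHom.mem_ker.1 (ht.symm ▸ Subgroup.mem_top g)
      simp [hℓ, hg, principal_apply]
  · -- the involution in the kernel
    rw [sq, mul_self_eq_zero, sub_eq_zero, hf, hs,
      mul_right_inj' (by intro h0; rw [h0, zero_mul] at hδc; exact zero_ne_one hδc)] at hfs
    haveI := CharApps.charKer_normal E
    rcases hsimple.eq_bot_or_eq_top_of_normal (CharApps.charKer E) inferInstance with hb | ht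
    · have hmem : τ ∈ CharApps.charKer E := CharApps.mem_charKer.2 hfs.symm
      rw [hb, Subgroup.mem_bot] at hmem
      rw [hmem, orderOf_one] at hτ
      exact absurd hτ (by decide)
    · have hc1 : ∀ g : G, (E : G → ℂ) g = (E : G → ℂ) 1 := fun g =>
        CharApps.mem_charKer.1 (ht.symm ▸ Subgroup.mem_top g)
      rw [Finset.sum_congr rfl fun g _ => hc1 g, Finset.sum_const, Finset.card_univ, nsmul_eq_mul,
        mul_eq_zero] at hE0
      exact hE0.elim (Nat.cast_ne_zero.2 Fintype.card_ne_zero) (CharApps.deg_ne_zero E)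

end CfsgLib.SmithTyrer
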